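import Groth.Prelude.Def_Found
import Mathlib.Algebra.DirectSum.Module
import Mathlib.Algebra.Module.Projective
import Mathlib.Data.Set.Countable
import Mathlib.Order.Zorn

/-!
Countable closures, projectors of internal direct sums, and Kaplansky's theorem on direct summands of
direct sums of countably generated modules.
-/

set_option autoImplicit false

universe u v

open CAlg

namespace Groth.Agent.Lib.Pure.Kaplansky

/-- A countable set is contained in a countable set closed under a countably branching relation. -/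
theorem exists_countable_closed {X : Type v} (c : X → Set X) (hc : ∀ x, (c x).Countable)
    {A : Set X} (hA : A.Countable) :
    ∃ T : Set X, A ⊆ T ∧ T.Countable ∧ ∀ x ∈ T, c x ⊆ T := by
  let step : Set X → Set X := fun B => ⋃ x ∈ B, c x
  let seq : ℕ → Set X := fun n => step^[n] A
  have hseq : ∀ n, (seq n).Countable := by
    intro n
    induction n with
    | zero => exact hA
    | succ n ih =>
      simp only [seq, Function.iterate_succ_apply']
      exact ih.biUnion fun x _ => hc x
  refine ⟨⋃ n, seq n, Set.subset_iUnion seq 0, Set.countable_iUnion hseq, fun x hx => ?_⟩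
  obtain ⟨n, hn⟩ := Set.mem_iUnion.1 hx
  refine Set.Subset.trans ?_ (Set.subset_iUnion seq (n + 1))
  simp only [seq, Function.iterate_succ_apply']
  exact Set.subset_biUnion_of_mem (u := c) hn

variable {R : Type u} [CommRing R] {M : Type u} [AddCommGroup M] [Module R M] {ι : Type v}

/-- The span of the members indexed by `J`. -/
def part (N : ι → Submodule R M) (J : Set ι) : Submodule R M := ⨆ i ∈ J, N i

theorem part_mono (N : ι → Submodule R M) {J J' : Set ι} (h : J ⊆ J') : part N J ≤ part N J' :=
  biSup_mono h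

theorem le_part (N : ι → Submodule R M) {J : Set ι} {i : ι} (h : i ∈ J) : N i ≤ part N J :=
  le_iSup₂ (f := fun i (_ : i ∈ J) => N i) i h

theorem part_union (N : ι → Submodule R M) (J J' : Set ι) :
    part N (J ∪ J') = part N J ⊔ part N J' :=
  iSup_union

theorem mem_part_finset (N : ι → Submodule R M) (hN : (⨆ i, N i) = ⊤) (m : M) :
    ∃ s : Finset ι, m ∈ part N ↑s := by
  classical
  have h : m ∈ ⨆ i, N i := hN ▸ Submodule.mem_top
  obtain ⟨s, hs⟩ := Submodule.mem_iSup_iff_exists_finset.1 h
  exact ⟨s, hs⟩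

theorem exists_projector [DecidableEq ι] (N : ι → Submodule R M) (hN : DirectSum.IsInternal N)
    (J : Set ι) : ∃ p : M →ₗ[R] M, (∀ x ∈ part N J, p x = x) ∧ (∀ x ∈ part N Jᶜ, p x = 0) ∧
      ∀ x, p x ∈ part N J := by
  classical
  let e := LinearEquiv.ofBijective (DirectSum.coeLinearMap N) hN
  let r : DirectSum ι (fun i => N i) →ₗ[R] M :=
    DirectSum.toModule R ι M fun i => if i ∈ J then (N i).subtype else 0
  have h : ∀ i, ∀ x ∈ N i, r (e.symm x) = if i ∈ J then x else 0 := by
    intro i x hx
    have : e.symm x = DirectSum.lof R ι (fun i => N i) i ⟨x, hx⟩ := by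
      rw [LinearEquiv.symm_apply_eq]
      exact (DirectSum.coeLinearMap_of N i ⟨x, hx⟩).symm
    rw [this, DirectSum.toModule_lof]
    split_ifs <;> rfl
  refine ⟨r ∘ₗ e.symm.toLinearMap, ?_, ?_, ?_⟩
  · have : part N J ≤ LinearMap.eqLocus (r ∘ₗ e.symm.toLinearMap) LinearMap.id :=
      iSup₂_le fun i hi x hx => by simp [h i x hx, hi]
    exact fun x hx => this hx
  · have : part N Jᶜ ≤ LinearMap.ker (r ∘ₗ e.symm.toLinearMap) :=
      iSup₂_le fun i hi x hx => by
        have hi' : i ∉ J := hi
        simp [h i x hx, hi']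
    exact fun x hx => LinearMap.mem_ker.1 (this hx)
  · intro x
    change r (e.symm x) ∈ part N J
    induction e.symm x using DirectSum.induction_on with
    | zero => simp
    | of i y =>
      rw [← DirectSum.lof_eq_of R, DirectSum.toModule_lof]
      split_ifs with hi
      · exact le_part N hi y.2
      · simp
    | add a b ha hb => rw [map_add]; exact add_mem ha hb

theorem countable_span_iff (L : Submodule R M) :
    IsCountablyGenerated R L ↔ ∃ s : Set M, s.Countable ∧ Submodule.span R s = L := by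
  constructor
  · rintro ⟨s, hs, h⟩
    refine ⟨Subtype.val '' s, hs.image _, ?_⟩
    rw [show Subtype.val '' s = L.subtype '' s from rfl, Submodule.span_image, h,
      Submodule.map_subtype_top]
  · rintro ⟨s, hs, h⟩
    refine ⟨Subtype.val ⁻¹' s, hs.preimage Subtype.val_injective, ?_⟩
    refine Submodule.map_injective_of_injective L.subtype_injective ?_
    rw [Submodule.map_subtype_top, ← Submodule.span_image]
    have : L.subtype '' (Subtype.val ⁻¹' s) = s := by
      ext x
      refine ⟨?_, fun hx => ⟨⟨x, h ▸ Submodule.subset_span hx⟩, hx, rfl⟩⟩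
      rintro ⟨y, hy, rfl⟩
      exact hy
    rw [this, h]

theorem sSupIndep_insert {L : Submodule R M} {S : Set (Submodule R M)} (hS : sSupIndep S)
    (h : Disjoint L (sSup S)) : sSupIndep (insert L S) := by
  intro a ha
  rcases ha with rfl | ha
  · refine h.mono_right (sSup_le_sSup fun x hx => ?_)
    rcases hx.1 with rfl | hx'
    · exact absurd rfl hx.2
    · exact hx'
  · by_cases hLa : a = L
    · subst hLa
      refine h.mono_right (sSup_le_sSup fun x hx => ?_)
      rcases hx.1 with rfl | hx'
      · exact absurd rfl hx.2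
      · exact hx'
    · have hsub : (insert L S) \ {a} = insert L (S \ {a}) :=
        Set.insert_sdiff_of_notMem _ (by simpa using Ne.symm hLa)
      rw [hsub, sSup_insert, sup_comm]
      refine (hS ha).disjoint_sup_right_of_disjoint_sup_left (h.symm.mono_left ?_)
      exact sup_le (le_sSup ha) (sSup_le_sSup Set.sdiff_subset)

theorem sSupIndep_sUnion {C : Set (Set (Submodule R M))} (hC : IsChain (· ⊆ ·) C)
    (h : ∀ S ∈ C, sSupIndep S) : sSupIndep (⋃₀ C) := by
  rcases C.eq_empty_or_nonempty with rfl | hne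
  · simp
  · exact iSupIndep_sUnion_of_directed hC.directedOn h

/-- Kaplansky: a direct summand of a direct sum of countably generated modules is one, too. -/
theorem summand (N : ι → Submodule R M) [DecidableEq ι] (hN : DirectSum.IsInternal N)
    (hc : ∀ i, IsCountablyGenerated R (N i)) (π : M →ₗ[R] M) (hπ : ∀ x, π (π x) = π x) :
    ∃ 𝓛 : Set (Submodule R M), sSupIndep 𝓛 ∧ sSup 𝓛 = LinearMap.range π ∧
      ∀ L ∈ 𝓛, IsCountablyGenerated R L := by
  classical
  let Pm := LinearMap.range π
  have hsurj := hN.submodule_iSup_eq_top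
  let good : Set ι × Set (Submodule R M) → Prop := fun a =>
    (part N a.1).map π ≤ part N a.1 ∧ sSupIndep a.2 ∧ sSup a.2 = (part N a.1).map π ∧
      ∀ L ∈ a.2, IsCountablyGenerated R L
  obtain ⟨a, -, hmax⟩ := zorn_le_nonempty₀ {a | good a} (fun C hC hchain y hy => by
      refine ⟨(⋃ a ∈ C, a.1, ⋃ a ∈ C, a.2), ?_, fun z hz =>
        ⟨Set.subset_biUnion_of_mem (u := Prod.fst) hz, Set.subset_biUnion_of_mem (u := Prod.snd) hz⟩⟩
      have h1 : part N (⋃ a ∈ C, a.1) = ⨆ a ∈ C, part N a.1 := by
        refine le_antisymm (iSup₂_le fun i hi => ?_) (iSup₂_le fun b hb =>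
          part_mono N (Set.subset_biUnion_of_mem (u := Prod.fst) hb))
        obtain ⟨b, hb, hib⟩ := Set.mem_iUnion₂.1 hi
        exact le_iSup₂_of_le b hb (le_part N hib)
      refine ⟨?_, ?_, ?_, ?_⟩
      · simp only
        rw [h1, Submodule.map_iSup]
        refine iSup_le fun b => ?_
        rw [Submodule.map_iSup]
        exact iSup_le fun hb => ((hC hb).1).trans (le_iSup₂ (f := fun a (_ : a ∈ C) => part N a.1) b hb)
      · simp only
        rw [show (⋃ a ∈ C, a.2) = ⋃₀ (Prod.snd '' C) by simp [Set.sUnion_image]]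
        refine sSupIndep_sUnion ?_ ?_
        · rintro _ ⟨x, hx, rfl⟩ _ ⟨z, hz, rfl⟩ hne
          rcases hchain hx hz (fun h => hne (h ▸ rfl)) with h | h
          · exact Or.inl h.2
          · exact Or.inr h.2
        · rintro _ ⟨x, hx, rfl⟩
          exact (hC hx).2.1
      · simp only
        rw [h1]
        simp only [sSup_iUnion, Submodule.map_iSup]
        exact iSup_congr fun b => iSup_congr fun hb => (hC hb).2.2.1
      · simp only [Set.mem_iUnion]
        rintro L ⟨b, hb, hL⟩
        exact (hC hb).2.2.2 L hL)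
    (∅, ∅) ⟨by simp [part], by simp, by simp [part], by simp⟩
  obtain ⟨hgood, hind, hsup, hcg⟩ := hmax.1
  by_cases hJ : a.1 = Set.univ
  · refine ⟨a.2, hind, ?_, hcg⟩
    rw [hsup, hJ]
    simp [part, hsurj, Submodule.map_top]
  exfalso
  obtain ⟨i₀, hi₀⟩ := (Set.ne_univ_iff_exists_notMem _).1 hJ
  choose s hs hspan using fun i => (countable_span_iff (N i)).1 (hc i)
  choose F hF using fun m : M => mem_part_finset N hsurj m
  obtain ⟨T, hi₀T, hTc, hTcl⟩ := exists_countable_closed
    (fun i => ⋃ x ∈ s i, (↑(F (π x)) : Set ι))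
    (fun i => (hs i).biUnion fun x _ => (F (π x)).finite_toSet.countable) (Set.countable_singleton i₀)
  have hT : ∀ i ∈ T, (N i).map π ≤ part N T := by
    intro i hi
    rw [← hspan i, Submodule.map_span, Submodule.span_le]
    rintro _ ⟨x, hx, rfl⟩
    exact part_mono N (Set.Subset.trans (Set.subset_biUnion_of_mem (u := fun x => (↑(F (π x)) : Set ι)) hx)
      (hTcl i hi)) (hF (π x))
  obtain ⟨p, hp1, -, hp3⟩ := exists_projector N hN a.1
  let U := (part N a.1).map π
  let q : M →ₗ[R] M := π - π ∘ₗ p ∘ₗ π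
  have hqU : ∀ x ∈ U, q x = 0 := by
    rintro _ ⟨y, hy, rfl⟩
    have hmem : π y ∈ part N a.1 := hgood ⟨y, hy, rfl⟩
    simp [q, hπ, hp1 _ hmem]
  have hqsub : ∀ x, π x - q x ∈ U := fun x => ⟨p (π x), hp3 _, by simp [q]⟩
  have hqq : ∀ x, q (q x) = q x := fun x => by
    have h1 : q (π x) = q x := by simp [q, hπ]
    have h2 := hqU _ (hqsub x)
    rwa [map_sub, h1, sub_eq_zero, eq_comm] at h2
  let L : Submodule R M := Submodule.span R (⋃ i ∈ T, q '' s i)
  have hLeq : L = (part N T).map q := by
    simp only [L, part, Submodule.span_iUnion, Submodule.map_iSup]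
    exact iSup_congr fun i => iSup_congr fun _ => by rw [← hspan i, Submodule.map_span]
  have hdis : Disjoint L (sSup a.2) := by
    rw [hLeq, hsup, Submodule.disjoint_def]
    rintro _ ⟨y, -, rfl⟩ hU
    rw [← hqq, hqU _ hU]
  have hgood' : (part N (a.1 ∪ T)).map π ≤ part N (a.1 ∪ T) := by
    rw [part_union, Submodule.map_sup]
    refine sup_le_sup hgood ?_
    simp only [part, Submodule.map_iSup]
    exact iSup₂_le hT
  have hnew : good (a.1 ∪ T, insert L a.2) := by
    refine ⟨hgood', sSupIndep_insert hind hdis, ?_, ?_⟩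
    · simp only [sSup_insert, hsup, part_union, Submodule.map_sup]
      apply le_antisymm
      · refine sup_le ?_ le_sup_left
        rw [hLeq]
        rintro _ ⟨y, hy, rfl⟩
        rw [← sub_sub_self (π y) (q y)]
        exact sub_mem (Submodule.mem_sup_right ⟨y, hy, rfl⟩) (Submodule.mem_sup_left (hqsub y))
      · refine sup_le le_sup_right ?_
        rintro _ ⟨y, hy, rfl⟩
        rw [← add_sub_cancel (q y) (π y)]
        exact add_mem (Submodule.mem_sup_left (hLeq ▸ ⟨y, hy, rfl⟩))
          (Submodule.mem_sup_right (hqsub y))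
    · rintro L' (rfl | hL')
      · exact (countable_span_iff L).2 ⟨_, hTc.biUnion fun i _ => (hs i).image q, rfl⟩
      · exact hcg L' hL'
  exact hi₀ ((hmax.2 hnew ⟨Set.subset_union_left, Set.subset_insert _ _⟩).1
    (Or.inr (hi₀T rfl)))

end Groth.Agent.Lib.Pure.Kaplansky

namespace Groth.Agent.Lib.Pure.Kaplansky

variable {R : Type u} [CommRing R] {M : Type u} [AddCommGroup M] [Module R M]

open Classical in
/-- An independent family of submodules of `M` inside `P` gives an internal decomposition of `P`. -/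
theorem internal_comap (P : Submodule R M) (𝓛 : Set (Submodule R M)) (h : sSupIndep 𝓛)
    (hsup : sSup 𝓛 = P) (hc : ∀ L ∈ 𝓛, IsCountablyGenerated R L) :
    DirectSum.IsInternal (fun L : ↥𝓛 => Submodule.comap P.subtype L.1) ∧
      ∀ L : ↥𝓛, IsCountablyGenerated R (Submodule.comap P.subtype L.1) := by
  have hle : ∀ L : ↥𝓛, L.1 ≤ P := fun L => hsup ▸ le_sSup L.2
  have hmap : ∀ L : ↥𝓛, (Submodule.comap P.subtype L.1).map P.subtype = L.1 := fun L => by
    rw [Submodule.map_comap_subtype]; exact inf_eq_right.2 (hle L)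
  refine ⟨(DirectSum.isInternal_submodule_iff_iSupIndep_and_iSup_eq_top _).2 ⟨?_, ?_⟩, fun L => ?_⟩
  · intro L
    rw [Submodule.disjoint_def]
    intro x hx hx'
    have h1 : (x : M) ∈ (⨆ K, ⨆ (_ : K ≠ L), Submodule.comap P.subtype (K : ↥𝓛).1).map P.subtype :=
      ⟨x, hx', rfl⟩
    simp only [Submodule.map_iSup, hmap] at h1
    have h2 : (x : M) ∈ sSup (𝓛 \ {L.1}) := by
      have hle2 : (⨆ K : ↥𝓛, ⨆ (_ : K ≠ L), K.1) ≤ sSup (𝓛 \ {L.1}) :=
        iSup₂_le fun K hK => le_sSup ⟨K.2, fun e => hK (Subtype.ext e)⟩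
      exact hle2 h1
    exact Subtype.ext (Submodule.disjoint_def.1 (h L.2) _ hx h2)
  · apply Submodule.map_injective_of_injective P.subtype_injective
    rw [Submodule.map_iSup, Submodule.map_subtype_top]
    simp only [hmap]
    rw [← sSup_eq_iSup', hsup]
  · obtain ⟨s, hs, hspan⟩ := (countable_span_iff L.1).1 (hc L.1 L.2)
    refine (countable_span_iff _).2 ⟨Subtype.val ⁻¹' s, hs.preimage Subtype.val_injective, ?_⟩
    apply Submodule.map_injective_of_injective P.subtype_injective
    rw [hmap, Submodule.map_span]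
    rw [show P.subtype '' (Subtype.val ⁻¹' s) = s from Set.ext fun x =>
      ⟨by rintro ⟨y, hy, rfl⟩; exact hy,
        fun hx => ⟨⟨x, hle L (hspan ▸ Submodule.subset_span hx)⟩, hx, rfl⟩⟩, hspan]

end Groth.Agent.Lib.Pure.Kaplansky
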