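import Groth.Prelude.Def_Found
import Mathlib.Algebra.Module.Projective
import Mathlib.Algebra.DirectSum.Module
import Mathlib.LinearAlgebra.Matrix.NonsingularInverse
import Mathlib.RingTheory.LocalRing.ResidueField.Basic

/-!
Kaplansky: countably generated projective modules over local rings are free.
-/

set_option autoImplicit false

universe u

open CAlg

namespace Groth.Agent.Lib.Pure.LocalFree

variable {R : Type u} [CommRing R] [IsLocalRing R]

theorem exists_free_summand {P : Type u} [AddCommGroup P] [Module R P] [Module.Projective R P]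
    (x : P) :
    ∃ (κ : Type u) (_ : Fintype κ) (i : (κ → R) →ₗ[R] P) (r : P →ₗ[R] (κ → R)),
      r ∘ₗ i = LinearMap.id ∧ x ∈ LinearMap.range i := by
  classical
  obtain ⟨s, hs⟩ := (Module.projective_def (R := R) (P := P)).1 inferInstance
  let p := Finsupp.linearCombination R (id : P → P)
  let F := P →₀ R
  obtain ⟨b, hbmin⟩ : ∃ b : F ≃ₗ[R] F, ∀ b' : F ≃ₗ[R] F,
      (b (s x)).support.card ≤ (b' (s x)).support.card := by
    obtain ⟨b, hb⟩ := Nat.find_spec (p := fun n => ∃ b : F ≃ₗ[R] F, (b (s x)).support.card = n)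
      ⟨_, LinearEquiv.refl R F, rfl⟩
    exact ⟨b, fun b' => hb ▸ Nat.find_min' _ ⟨b', rfl⟩⟩
  let A : Finset P := (b (s x)).support
  let a : P → R := fun j => b (s x) j
  have hno : ∀ j ∈ A, ∀ c : P → R, a j ≠ ∑ i ∈ A.erase j, c i * a i := by
    intro j hj c hcj
    let lam : F →ₗ[R] R := ∑ i ∈ A.erase j, c i • Finsupp.lapply i
    have hlam : lam (Finsupp.single j 1) = 0 := by
      rw [LinearMap.sum_apply]
      refine Finset.sum_eq_zero fun i hi => ?_
      change c i * Finsupp.single j (1 : R) i = 0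
      rw [Finsupp.single_eq_of_ne (Finset.ne_of_mem_erase hi), mul_zero]
    have hlamx : lam (b (s x)) = a j := by
      rw [hcj, LinearMap.sum_apply]
      rfl
    let T : F ≃ₗ[R] F := LinearEquiv.ofLinearMap
      (LinearMap.id - (LinearMap.toSpanSingleton R F (Finsupp.single j 1)) ∘ₗ lam)
      (LinearMap.id + (LinearMap.toSpanSingleton R F (Finsupp.single j 1)) ∘ₗ lam)
      (LinearMap.ext fun y => by simp [hlam, -Finsupp.smul_single])
      (LinearMap.ext fun y => by simp [hlam, -Finsupp.smul_single])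
    have := hbmin (b.trans T)
    have hsub : ((b.trans T) (s x)).support ⊆ A.erase j := by
      intro i hi
      have hT : (b.trans T) (s x) = b (s x) - a j • Finsupp.single j 1 := by
        simp [T, hlamx, -Finsupp.smul_single]
      rw [hT, Finsupp.mem_support_iff] at hi
      rcases eq_or_ne i j with rfl | hij
      · exact absurd (show (b (s x) - a i • Finsupp.single i (1 : R) : P →₀ R) i = 0 by simp [a, F]) hi
      · have hval : (b (s x) - a j • Finsupp.single j (1 : R) : P →₀ R) i = (b (s x) : P →₀ R) i := by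
          simp [F, Finsupp.single_eq_of_ne hij]
        rw [hval] at hi
        exact Finset.mem_erase.2 ⟨hij, Finsupp.mem_support_iff.2 hi⟩
    have h2 := Finset.card_le_card hsub
    rw [Finset.card_erase_of_mem hj] at h2
    have : 0 < A.card := Finset.card_pos.2 ⟨j, hj⟩
    simp only [A] at *
    omega
  let v : A → P := fun i => p (b.symm (Finsupp.single i.1 1))
  let i₀ : (A → R) →ₗ[R] P := Fintype.linearCombination R v
  let κ₀ : P →ₗ[R] (A → R) := LinearMap.pi fun j => Finsupp.lapply j.1 ∘ₗ b.toLinearMap ∘ₗ s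
  have hdec : b (s x) = ∑ i : A, a i.1 • Finsupp.single i.1 (1 : R) := by
    rw [Finset.sum_coe_sort A (fun i => a i • Finsupp.single i (1 : R))]
    exact (Finsupp.sum_single (b (s x))).symm.trans
      (Finset.sum_congr rfl fun i _ => by simp [a])
  have hx : i₀ (fun i => a i.1) = x := by
    conv_rhs => rw [← hs x, ← b.symm_apply_apply (s x), hdec]
    simp only [i₀, v, Fintype.linearCombination_apply, map_sum, map_smul]
    rfl
  let C : Matrix A A R := fun j i => κ₀ (v i) j
  have hC : ∀ j : A, a j.1 = ∑ i : A, a i.1 * C j i := by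
    intro j
    have h1 : κ₀ x j = a j.1 := rfl
    rw [← h1, ← hx]
    simp [i₀, C, Fintype.linearCombination_apply, Finset.sum_apply, -LinearMap.pi_apply]
  have hm : ∀ j i : A, (if j = i then 1 else 0) - C j i ∈ IsLocalRing.maximalIdeal R := by
    intro j i
    rw [IsLocalRing.mem_maximalIdeal, mem_nonunits_iff]
    intro hu
    obtain ⟨w, hw⟩ := hu
    have hA : ∀ (k : A) (c : A → R), a k.1 ≠ ∑ l ∈ Finset.univ.erase k, c l * a l.1 := by
      intro k c
      have := hno k.1 k.2 fun l => if hl : l ∈ A then c ⟨l, hl⟩ else 0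
      convert this using 2
      refine Finset.sum_bij (fun l _ => l.1) ?_ ?_ ?_ ?_
      · intro l hl
        simp only [Finset.mem_erase, Finset.mem_univ, and_true] at hl
        exact Finset.mem_erase.2 ⟨fun e => hl (Subtype.ext e), l.2⟩
      · exact fun l _ l' _ e => Subtype.ext e
      · intro l hl
        obtain ⟨h1, h2⟩ := Finset.mem_erase.1 hl
        exact ⟨⟨l, h2⟩, Finset.mem_erase.2 ⟨fun e => h1 (congrArg Subtype.val e), Finset.mem_univ _⟩,
          rfl⟩
      · intro l _
        simp
    have hz : ∑ l : A, ((if j = l then 1 else 0) - C j l) * a l.1 = 0 := by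
      simp only [sub_mul, Finset.sum_sub_distrib, ite_mul, one_mul, zero_mul, Finset.sum_ite_eq,
        Finset.mem_univ, if_true]
      rw [sub_eq_zero]
      exact (hC j).trans (Finset.sum_congr rfl fun l _ => mul_comm _ _)
    apply hA i (fun l => -(↑w⁻¹ * ((if j = l then 1 else 0) - C j l)))
    rw [← Finset.add_sum_erase _ _ (Finset.mem_univ i), ← hw, add_eq_zero_iff_eq_neg] at hz
    calc a i.1 = ↑w⁻¹ * (↑w * a i.1) := by rw [← mul_assoc, w.inv_mul, one_mul]
      _ = _ := by
        rw [hz, mul_neg, Finset.mul_sum, ← Finset.sum_neg_distrib]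
        exact Finset.sum_congr rfl fun l _ => by ring
  have hdet : IsUnit C.det := by
    rw [← IsLocalRing.residue_ne_zero_iff_isUnit, RingHom.map_det]
    have : (IsLocalRing.residue R).mapMatrix C = 1 := by
      ext j i
      rw [RingHom.mapMatrix_apply, Matrix.map_apply, Matrix.one_apply]
      have := (IsLocalRing.residue_eq_zero_iff _).2 (hm j i)
      rw [map_sub, sub_eq_zero] at this
      rw [← this]
      split_ifs <;> simp
    simp [this]
  have hki : κ₀ ∘ₗ i₀ = C.mulVecLin := by
    refine LinearMap.ext fun c => funext fun j => ?_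
    rw [Matrix.mulVecLin_apply]
    change κ₀ (i₀ c) j = ∑ i, κ₀ (v i) j * c i
    simp [i₀, Fintype.linearCombination_apply, Finset.sum_apply, mul_comm, -LinearMap.pi_apply]
  refine ⟨A, inferInstance, i₀, C⁻¹.mulVecLin ∘ₗ κ₀, ?_, ⟨_, hx⟩⟩
  rw [LinearMap.comp_assoc, hki, ← Matrix.mulVecLin_mul, Matrix.nonsing_inv_mul _ hdet,
    Matrix.mulVecLin_one]

theorem exists_split {P : Type u} [AddCommGroup P] [Module R P] (Q : Submodule R P)
    [Module.Projective R Q] (y : Q) :
    ∃ G Q' : Submodule R P, Disjoint G Q' ∧ G ⊔ Q' = Q ∧ (y : P) ∈ G ∧ Module.Free R G ∧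
      Module.Projective R Q' := by
  obtain ⟨κ, _, i, r, hri, hy⟩ := exists_free_summand (R := R) (P := ↥Q) y
  have hinj : Function.Injective i := fun a b h => by
    simpa [← LinearMap.comp_apply, hri] using congrArg r h
  have hc : IsCompl (LinearMap.range i) (LinearMap.ker r) :=
    LinearMap.isCompl_of_proj (f := i.rangeRestrict ∘ₗ r) (fun z => by
      obtain ⟨c, hc⟩ := z.2
      apply Subtype.ext
      change i (r z.1) = z.1
      rw [← hc, ← LinearMap.comp_apply r, hri, LinearMap.id_apply]) |> fun h => by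
      rwa [LinearMap.ker_comp_of_ker_eq_bot] at h
      rw [LinearMap.ker_rangeRestrict, LinearMap.ker_eq_bot.2 hinj]
  refine ⟨(LinearMap.range i).map Q.subtype, (LinearMap.ker r).map Q.subtype,
    Submodule.disjoint_map Q.subtype_injective hc.disjoint, ?_, ⟨y, hy, rfl⟩, ?_, ?_⟩
  · rw [← Submodule.map_sup, hc.sup_eq_top, Submodule.map_subtype_top]
  · exact Module.Free.of_equiv ((LinearEquiv.ofInjective i hinj).trans
      (Submodule.equivMapOfInjective Q.subtype Q.subtype_injective _))
  · have : Module.Projective R (LinearMap.ker r) :=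
      Module.Projective.of_split (LinearMap.ker r).subtype
        ((LinearMap.id - i ∘ₗ r).codRestrict _ fun z => by
          simp [← LinearMap.comp_apply r i, hri])
        (LinearMap.ext fun z => Subtype.ext (by simp))
    exact Module.Projective.of_equiv
      (Submodule.equivMapOfInjective Q.subtype Q.subtype_injective _)

theorem free_of_countable {P : Type u} [AddCommGroup P] [Module R P] [Module.Projective R P]
    (hc : IsCountablyGenerated R P) : Module.Free R P := by
  classical
  obtain ⟨S, hS, hspan⟩ := hc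
  obtain ⟨e, he⟩ : ∃ e : ℕ → P, S ⊆ Set.range e := by
    obtain ⟨e, he⟩ := Set.Countable.exists_eq_range (hS.insert 0) (Set.insert_nonempty 0 S)
    exact ⟨e, he ▸ Set.subset_insert 0 S⟩
  let St := {AQ : Submodule R P × Submodule R P //
    IsCompl AQ.1 AQ.2 ∧ Module.Projective R AQ.2}
  have step : ∀ (st : St) (g : P), ∃ (G : Submodule R P) (st' : St), Module.Free R G ∧
      Disjoint G st'.1.2 ∧ G ⊔ st'.1.2 = st.1.2 ∧ st'.1.1 = st.1.1 ⊔ G ∧ g ∈ st'.1.1 := by
    rintro ⟨⟨A, Q⟩, hAQ, hQ⟩ g
    have : Module.Projective R Q := hQ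
    obtain ⟨x, hx, y, hy, rfl⟩ := Submodule.mem_sup.1 (hAQ.sup_eq_top ▸ Submodule.mem_top (x := g))
    obtain ⟨G, Q', hd, hsup, hyG, hfree, hproj⟩ := exists_split Q ⟨y, hy⟩
    refine ⟨G, ⟨(A ⊔ G, Q'), ⟨⟨?_, ?_⟩, hproj⟩⟩, hfree, hd, hsup, rfl,
      add_mem (Submodule.mem_sup_left hx) (Submodule.mem_sup_right hyG)⟩
    · exact hd.disjoint_sup_left_of_disjoint_sup_right (hsup ▸ hAQ.disjoint)
    · rw [codisjoint_iff, sup_assoc, hsup, hAQ.sup_eq_top]
  choose G nx hG1 hG2 hG3 hG4 hG5 using step
  let st : ℕ → St := fun k =>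
    Nat.rec ⟨(⊥, ⊤), isCompl_bot_top, Module.Projective.of_equiv Submodule.topEquiv.symm⟩
      (fun k s => nx s (e k)) k
  let Gk : ℕ → Submodule R P := fun k => G (st k) (e k)
  have hA : ∀ k, (st k).1.1 = ⨆ j ∈ Finset.range k, Gk j := by
    intro k
    induction k with
    | zero => simp [st]
    | succ k ih =>
      change (nx (st k) (e k)).1.1 = _
      rw [hG4, ih, Finset.range_add_one, Finset.iSup_insert, sup_comm]
  have hQanti : Antitone fun k => (st k).1.2 := antitone_nat_of_succ_le fun k => by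
    change (nx (st k) (e k)).1.2 ≤ _
    rw [← hG3 (st k) (e k)]
    exact le_sup_right
  have hGle : ∀ k, Gk k ≤ (st k).1.2 := fun k => hG3 (st k) (e k) ▸ le_sup_left
  have hind : iSupIndep Gk := by
    intro k
    have h1 : Disjoint (Gk k) ((nx (st k) (e k)).1.2 ⊔ (st k).1.1) := by
      refine (hG2 (st k) (e k)).disjoint_sup_right_of_disjoint_sup_left ?_
      rw [hG3]
      exact (st k).2.1.disjoint.symm
    refine h1.mono_right (iSup₂_le fun j hj => ?_)
    rcases lt_or_gt_of_ne hj with h | h
    · refine le_trans ?_ le_sup_right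
      rw [hA k]
      exact le_iSup₂ (f := fun j (_ : j ∈ Finset.range k) => Gk j) j (Finset.mem_range.2 h)
    · exact le_trans ((hGle j).trans (hQanti (Nat.succ_le_of_lt h))) le_sup_left
  have htop : ⨆ k, Gk k = ⊤ := by
    rw [eq_top_iff, ← hspan, Submodule.span_le]
    intro x hx
    obtain ⟨k, rfl⟩ := he hx
    have h1 : e k ∈ (st (k + 1)).1.1 := hG5 (st k) (e k)
    have h2 := (SetLike.ext_iff.1 (hA (k + 1)) (e k)).1 h1
    exact (iSup₂_le (fun j _ => le_iSup Gk j) : (⨆ j ∈ Finset.range (k + 1), Gk j) ≤ ⨆ j, Gk j) h2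
  have hint := (DirectSum.isInternal_submodule_iff_iSupIndep_and_iSup_eq_top Gk).2 ⟨hind, htop⟩
  have : ∀ k, Module.Free R (Gk k) := fun k => hG1 _ _
  exact Module.Free.of_basis (hint.collectedBasis fun k => Module.Free.chooseBasis R (Gk k))

end Groth.Agent.Lib.Pure.LocalFree
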