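import Groth.Prelude.Def_CAlgX
import Mathlib.Algebra.Module.FinitePresentation
import Mathlib.Algebra.Module.CharacterModule
import Mathlib.LinearAlgebra.TensorProduct.Pi
import Mathlib.LinearAlgebra.TensorProduct.RightExactness
import Mathlib.RingTheory.Flat.Basic
import Mathlib.RingTheory.Flat.Tensor

/-!
Universally injective (pure) maps of modules: tensors vanish through finitely presented modules,
formal properties, criteria, relation with flatness.
-/

set_option autoImplicit false

universe u

open TensorProduct CAlgX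

namespace Groth.Agent.Lib.Pure.UI

variable {R : Type u} [CommRing R]
variable {M N L Q P : Type u} [AddCommGroup M] [Module R M] [AddCommGroup N] [Module R N]
  [AddCommGroup L] [Module R L] [AddCommGroup Q] [Module R Q] [AddCommGroup P] [Module R P]

/-- If `f ⊗ Q` kills `x`, then `f` factors through a finitely presented module already killing `x`. -/
theorem exists_fp_factor [Module.FinitePresentation R P] (f : P →ₗ[R] M) (x : P ⊗[R] Q)
    (hx : f.rTensor Q x = 0) :
    ∃ (P' : Type u) (_ : AddCommGroup P') (_ : Module R P') (_ : Module.FinitePresentation R P')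
      (f' : P →ₗ[R] P') (h : P' →ₗ[R] M), f = h ∘ₗ f' ∧ f'.rTensor Q x = 0 := by
  classical
  let π : P × (M →₀ R) →ₗ[R] M := f.coprod (Finsupp.linearCombination R id)
  have hπ : Function.Surjective π := fun m => ⟨(0, Finsupp.single m 1), by simp [π]⟩
  have hfi : π ∘ₗ LinearMap.inl R P (M →₀ R) = f := LinearMap.coprod_inl _ _
  have h0 : π.rTensor Q ((LinearMap.inl R P (M →₀ R)).rTensor Q x) = 0 := by
    rw [← LinearMap.rTensor_comp_apply, hfi, hx]
  have hex : Function.Exact (LinearMap.ker π).subtype π := LinearMap.exact_subtype_ker_map π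
  obtain ⟨w, hw⟩ :=
    ((rTensor_exact (M := ↥(LinearMap.ker π)) (f := (LinearMap.ker π).subtype) Q hex hπ) _).1 h0
  obtain ⟨S, hS⟩ := TensorProduct.exists_finset w
  let s : Finset M := S.biUnion fun p => p.1.1.2.support
  let inc : P × (s →₀ R) →ₗ[R] P × (M →₀ R) :=
    (LinearMap.id).prodMap (Finsupp.lmapDomain R R (Subtype.val : s → M))
  let res : P × (M →₀ R) →ₗ[R] P × (s →₀ R) :=
    (LinearMap.id).prodMap (Finsupp.lcomapDomain (Subtype.val : s → M) Subtype.val_injective)
  have hres : ∀ p ∈ S, inc (res p.1.1) = p.1.1 := by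
    intro p hp
    refine Prod.ext rfl ?_
    change Finsupp.mapDomain _ (Finsupp.comapDomain _ p.1.1.2 _) = _
    refine Finsupp.mapDomain_comapDomain _ Subtype.val_injective _ fun m hm => ?_
    exact ⟨⟨m, Finset.mem_biUnion.2 ⟨p, hp, hm⟩⟩, rfl⟩
  let K : Submodule R (P × (s →₀ R)) :=
    Submodule.span R (↑(S.image fun p => res p.1.1) : Set (P × (s →₀ R)))
  have hK : K ≤ LinearMap.ker (π ∘ₗ inc) := by
    refine Submodule.span_le.2 fun y hy => ?_
    obtain ⟨p, hp, rfl⟩ := Finset.mem_image.1 hy
    change π (inc (res p.1.1)) = 0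
    rw [hres p hp]
    exact p.1.2
  have hKfg : K.FG := Submodule.fg_span (Finset.finite_toSet _)
  have hfp : Module.FinitePresentation R ((P × (s →₀ R)) ⧸ K) :=
    Module.finitePresentation_of_surjective K.mkQ K.mkQ_surjective (by rwa [K.ker_mkQ])
  have hinl : inc ∘ₗ LinearMap.inl R P (s →₀ R) = LinearMap.inl R P (M →₀ R) := by
    ext p <;> simp [inc]
  have hresinl : res ∘ₗ LinearMap.inl R P (M →₀ R) = LinearMap.inl R P (s →₀ R) := by
    ext p <;> simp [res]
  refine ⟨_, inferInstance, inferInstance, hfp, K.mkQ ∘ₗ LinearMap.inl R P (s →₀ R),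
    K.liftQ (π ∘ₗ inc) hK, ?_, ?_⟩
  · rw [← LinearMap.comp_assoc, Submodule.liftQ_mkQ, LinearMap.comp_assoc, hinl, hfi]
  · rw [LinearMap.rTensor_comp_apply]
    have h1 : (LinearMap.inl R P (s →₀ R)).rTensor Q x
        = res.rTensor Q ((LinearMap.ker π).subtype.rTensor Q w) := by
      rw [hw, ← LinearMap.rTensor_comp_apply, hresinl]
    rw [h1, hS, map_sum, map_sum, map_sum]
    refine Finset.sum_eq_zero fun p hp => ?_
    have hmem : res p.1.1 ∈ K := Submodule.subset_span (Finset.mem_image_of_mem _ hp)
    simp [(Submodule.Quotient.mk_eq_zero K).2 hmem]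

/-- Elements of a kernel of `f ⊗ Q` come from finitely presented modules mapping to `Q`. -/
theorem exists_fp_preimage (f : M →ₗ[R] N) (x : M ⊗[R] Q) (hx : f.rTensor Q x = 0) :
    ∃ (P : Type u) (_ : AddCommGroup P) (_ : Module R P) (_ : Module.FinitePresentation R P)
      (h : P →ₗ[R] Q) (x' : M ⊗[R] P), h.lTensor M x' = x ∧ f.rTensor P x' = 0 := by
  classical
  obtain ⟨S, hS⟩ := TensorProduct.exists_finset x
  let h₀ : (S → R) →ₗ[R] Q := Fintype.linearCombination R fun p : S => p.1.2
  let x₀ : M ⊗[R] (S → R) := ∑ p : S, p.1.1 ⊗ₜ Pi.single p 1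
  have hx₀ : h₀.lTensor M x₀ = x := by
    simp only [x₀, map_sum, LinearMap.lTensor_tmul, h₀, Fintype.linearCombination_apply_single,
      one_smul]
    rw [hS]
    exact Finset.sum_coe_sort S (fun p : M × Q => p.1 ⊗ₜ[R] p.2)
  have hz : h₀.rTensor N (TensorProduct.comm R N (S → R) (f.rTensor _ x₀)) = 0 := by
    have : h₀.lTensor N (f.rTensor _ x₀) = 0 := by
      rw [← LinearMap.comp_apply, LinearMap.lTensor_comp_rTensor, ← LinearMap.rTensor_comp_lTensor,
        LinearMap.comp_apply, hx₀, hx]
    have e : h₀.rTensor N ∘ₗ (TensorProduct.comm R N (S → R)).toLinearMap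
        = (TensorProduct.comm R N Q).toLinearMap ∘ₗ h₀.lTensor N := by
      ext a b; simp
    simpa [this] using LinearMap.congr_fun e (f.rTensor _ x₀)
  obtain ⟨P', i₁, i₂, i₃, h', h, hfac, hk⟩ := exists_fp_factor h₀ _ hz
  refine ⟨P', i₁, i₂, i₃, h, h'.lTensor M x₀, ?_, ?_⟩
  · rw [← LinearMap.lTensor_comp_apply, ← hfac, hx₀]
  · have e : (TensorProduct.comm R N P').toLinearMap ∘ₗ h'.lTensor N
        = h'.rTensor N ∘ₗ (TensorProduct.comm R N (S → R)).toLinearMap := by
      ext a b; simp
    have := LinearMap.congr_fun e (f.rTensor _ x₀)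
    simp only [LinearMap.comp_apply, LinearEquiv.coe_coe, hk, LinearEquiv.map_eq_zero_iff] at this
    rwa [← LinearMap.comp_apply, LinearMap.rTensor_comp_lTensor, ← LinearMap.lTensor_comp_rTensor,
      LinearMap.comp_apply]

/-- Domination only needs to be checked on finitely presented modules. -/
theorem ker_rTensor_le_of_fp (f : M →ₗ[R] N) (g : M →ₗ[R] L)
    (h : ∀ (Q : Type u) [AddCommGroup Q] [Module R Q], Module.FinitePresentation R Q →
      LinearMap.ker (f.rTensor Q) ≤ LinearMap.ker (g.rTensor Q))
    (Q : Type u) [AddCommGroup Q] [Module R Q] :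
    LinearMap.ker (f.rTensor Q) ≤ LinearMap.ker (g.rTensor Q) := by
  intro x hx
  obtain ⟨P, i₁, i₂, i₃, k, x', rfl, hx'⟩ := exists_fp_preimage f x hx
  have := h P i₃ hx'
  rw [LinearMap.mem_ker] at this ⊢
  rw [← LinearMap.comp_apply, LinearMap.rTensor_comp_lTensor, ← LinearMap.lTensor_comp_rTensor,
    LinearMap.comp_apply, this, map_zero]

theorem of_fp (f : M →ₗ[R] N)
    (h : ∀ (Q : Type u) [AddCommGroup Q] [Module R Q], Module.FinitePresentation R Q →
      Function.Injective (f.rTensor Q)) : UniversallyInjective R f := by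
  intro Q _ _
  rw [injective_iff_map_eq_zero]
  intro x hx
  obtain ⟨P, i₁, i₂, i₃, k, x', rfl, hx'⟩ := exists_fp_preimage f x hx
  rw [(injective_iff_map_eq_zero _).1 (h P i₃) x' hx', map_zero]

theorem comp {f : M →ₗ[R] N} {g : N →ₗ[R] L} (hg : UniversallyInjective R g)
    (hf : UniversallyInjective R f) : UniversallyInjective R (g ∘ₗ f) := fun Q _ _ => by
  rw [LinearMap.rTensor_comp]; exact (hg Q).comp (hf Q)

theorem of_comp {f : M →ₗ[R] N} {g : N →ₗ[R] L} (h : UniversallyInjective R (g ∘ₗ f)) :
    UniversallyInjective R f := fun Q _ _ => by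
  have := h Q
  rw [LinearMap.rTensor_comp] at this
  exact Function.Injective.of_comp this

theorem of_leftInverse {f : M →ₗ[R] N} {g : N →ₗ[R] M} (h : g ∘ₗ f = LinearMap.id) :
    UniversallyInjective R f :=
  of_comp (g := g) (h ▸ fun Q _ _ => by simp [Function.injective_id])

theorem linearEquiv (e : M ≃ₗ[R] N) : UniversallyInjective R e.toLinearMap :=
  of_leftInverse (g := e.symm.toLinearMap) (by ext; simp)

theorem lTensor_injective {f : M →ₗ[R] N} (h : UniversallyInjective R f)
    (Q : Type u) [AddCommGroup Q] [Module R Q] : Function.Injective (f.lTensor Q) :=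
  (f.lTensor_inj_iff_rTensor_inj Q).2 (h Q)

theorem injective {f : M →ₗ[R] N} (h : UniversallyInjective R f) : Function.Injective f := by
  have := h R
  intro a b hab
  have e : a ⊗ₜ[R] (1 : R) = b ⊗ₜ[R] (1 : R) := this (by simp [hab])
  simpa using congrArg (TensorProduct.rid R M) e

/-- Characterisation by extending maps into character modules. -/
theorem iff_exists_extension (f : M →ₗ[R] N) :
    UniversallyInjective R f ↔
      ∀ (Q : Type u) [AddCommGroup Q] [Module R Q] (φ : M →ₗ[R] CharacterModule Q),
        ∃ ψ : N →ₗ[R] CharacterModule Q, ψ ∘ₗ f = φ :=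
  ⟨fun h Q _ _ φ => rTensor_injective_iff_lcomp_surjective.1 (h Q) φ,
    fun h Q _ _ => rTensor_injective_iff_lcomp_surjective.2 (h Q)⟩

/-- The equational criterion. -/
theorem iff_equational (f : M →ₗ[R] N) :
    UniversallyInjective R f ↔ Function.Injective f ∧
      ∀ (n m : ℕ) (x : Fin n → M) (y : Fin m → N) (a : Fin n → Fin m → R),
        (∀ i, f (x i) = ∑ j, a i j • y j) → ∃ z : Fin m → M, ∀ i, x i = ∑ j, a i j • z j := by
  classical
  refine ⟨fun h => ⟨injective h, ?_⟩, fun ⟨hinj, h⟩ => of_fp f fun Q _ _ hQ => ?_⟩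
  · intro n m x y a hxy
    let A : (Fin m → R) →ₗ[R] (Fin n → R) :=
      Fintype.linearCombination R fun j i => a i j
    let K := LinearMap.range A
    have he := lTensor_exact M (LinearMap.exact_map_mkQ_range A) K.mkQ_surjective
    have he' := lTensor_exact N (LinearMap.exact_map_mkQ_range A) K.mkQ_surjective
    let xt : M ⊗[R] (Fin n → R) := (piScalarRight R R M (Fin n)).symm x
    have key : ∀ {X : Type u} [AddCommGroup X] [Module R X] (w : Fin m → X) (i : Fin n),
        piScalarRight R R X (Fin n) (A.lTensor X ((piScalarRight R R X (Fin m)).symm w)) i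
          = ∑ j, a i j • w j := by
      intro X _ _ w i
      have hw : (piScalarRight R R X (Fin m)).symm w = ∑ j, w j ⊗ₜ Pi.single j (1 : R) := by
        rw [LinearEquiv.symm_apply_eq, map_sum]
        ext j
        simp [Finset.sum_apply, Pi.single_apply, ite_smul]
      rw [hw]
      simp [A, Finset.sum_apply, piScalarRightHom_tmul]
    have h0 : K.mkQ.lTensor M xt = 0 := by
      apply (injective_iff_map_eq_zero _).1 (h ((Fin n → R) ⧸ K))
      rw [← LinearMap.comp_apply, LinearMap.rTensor_comp_lTensor, ← LinearMap.lTensor_comp_rTensor,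
        LinearMap.comp_apply]
      refine (he' _).2 ⟨(piScalarRight R R N (Fin m)).symm y, ?_⟩
      apply (piScalarRight R R N (Fin n)).injective
      ext i
      rw [key, ← hxy i]
      have e : (LinearMap.proj i ∘ₗ (piScalarRight R R N (Fin n)).toLinearMap) ∘ₗ f.rTensor _
          = f ∘ₗ LinearMap.proj i ∘ₗ (piScalarRight R R M (Fin n)).toLinearMap := by
        ext a' b; simp [piScalarRightHom_tmul]
      have := LinearMap.congr_fun e xt
      simpa [xt] using this.symm
    obtain ⟨w, hw⟩ := (he _).1 h0
    refine ⟨piScalarRight R R M (Fin m) w, fun i => ?_⟩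
    have := key (piScalarRight R R M (Fin m) w) i
    rw [LinearEquiv.symm_apply_apply, hw] at this
    simpa [xt] using this
  · rw [injective_iff_map_eq_zero]
    intro x hx
    obtain ⟨n, K, e, hK⟩ := Module.FinitePresentation.exists_fin R Q
    obtain ⟨m, g, hg⟩ := Submodule.fg_iff_exists_fin_generating_family.1 hK
    let π : (Fin n → R) →ₗ[R] Q := e.symm.toLinearMap ∘ₗ K.mkQ
    have hπ : Function.Surjective π := e.symm.surjective.comp K.mkQ_surjective
    let A : (Fin m → R) →ₗ[R] (Fin n → R) := Fintype.linearCombination R g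
    have hA : Function.Exact A π := by
      intro v
      rw [← LinearMap.coe_range (f := A), Fintype.range_linearCombination, hg, SetLike.mem_coe]
      simp [π, Submodule.Quotient.mk_eq_zero]
    obtain ⟨xt, rfl⟩ := LinearMap.lTensor_surjective M hπ x
    rw [← LinearMap.comp_apply, LinearMap.rTensor_comp_lTensor, ← LinearMap.lTensor_comp_rTensor,
      LinearMap.comp_apply] at hx
    obtain ⟨w, hw⟩ := (lTensor_exact N hA hπ _).1 hx
    have key : ∀ {X : Type u} [AddCommGroup X] [Module R X] (v : X ⊗[R] (Fin m → R)) (i : Fin n),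
        piScalarRight R R X (Fin n) (A.lTensor X v) i
          = ∑ j, g j i • piScalarRight R R X (Fin m) v j := by
      intro X _ _ v i
      induction v using TensorProduct.induction_on with
      | zero => simp
      | add a b ha hb => simp only [map_add, Pi.add_apply, ha, hb, smul_add, Finset.sum_add_distrib]
      | tmul x₁ c =>
        simp [A, Fintype.linearCombination_apply, piScalarRightHom_tmul, Finset.sum_apply,
          Finset.sum_smul, smul_smul, mul_comm]
    obtain ⟨z, hz⟩ := h n m (piScalarRight R R M (Fin n) xt) (piScalarRight R R N (Fin m) w)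
      (fun i j => g j i) (fun i => by
        rw [← key w i, hw]
        have e' : (LinearMap.proj i ∘ₗ (piScalarRight R R N (Fin n)).toLinearMap) ∘ₗ f.rTensor _
            = f ∘ₗ LinearMap.proj i ∘ₗ (piScalarRight R R M (Fin n)).toLinearMap := by
          ext a' b; simp [piScalarRightHom_tmul]
        simpa using (LinearMap.congr_fun e' xt).symm)
    refine (lTensor_exact M hA hπ _).2 ⟨(piScalarRight R R M (Fin m)).symm z, ?_⟩
    apply (piScalarRight R R M (Fin n)).injective
    ext i
    rw [key, LinearEquiv.apply_symm_apply]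
    exact (hz i).symm

/-- If every map from a finitely presented module lifts, the kernel is universally injective. -/
theorem ker_subtype_of_fp_lift (g : M →ₗ[R] N)
    (h : ∀ (P : Type u) [AddCommGroup P] [Module R P], Module.FinitePresentation R P →
      ∀ φ : P →ₗ[R] N, ∃ ψ : P →ₗ[R] M, g ∘ₗ ψ = φ) :
    UniversallyInjective R (LinearMap.ker g).subtype := by
  classical
  refine (iff_equational _).2 ⟨Subtype.val_injective, fun n m x y a hxy => ?_⟩
  let K : Submodule R (Fin m → R) := Submodule.span R (Set.range a)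
  have hfp : Module.FinitePresentation R ((Fin m → R) ⧸ K) :=
    Module.finitePresentation_of_surjective K.mkQ K.mkQ_surjective
      (by rw [K.ker_mkQ]; exact Submodule.fg_span (Set.finite_range a))
  let φ₀ : (Fin m → R) →ₗ[R] N := Fintype.linearCombination R fun j => g (y j)
  have hφ : K ≤ LinearMap.ker φ₀ := by
    refine Submodule.span_le.2 ?_
    rintro _ ⟨i, rfl⟩
    have := congrArg g (hxy i)
    simp only [Submodule.coe_subtype, LinearMap.map_coe_ker, map_sum, map_smul] at this
    simpa [φ₀, Fintype.linearCombination_apply] using this.symm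
  obtain ⟨ψ, hψ⟩ := h _ hfp (K.liftQ φ₀ hφ)
  have hmem : ∀ j, y j - ψ (K.mkQ (Pi.single j 1)) ∈ LinearMap.ker g := fun j => by
    have := LinearMap.congr_fun hψ (K.mkQ (Pi.single j 1))
    simp only [LinearMap.comp_apply] at this
    rw [Submodule.mkQ_apply, Submodule.liftQ_apply] at this
    simp [this, φ₀]
  refine ⟨fun j => ⟨_, hmem j⟩, fun i => Subtype.ext ?_⟩
  have hi : ψ (K.mkQ (a i)) = 0 := by
    rw [Submodule.mkQ_apply, (Submodule.Quotient.mk_eq_zero K).2 (Submodule.subset_span ⟨i, rfl⟩),
      map_zero]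
  have hai : a i = ∑ j, a i j • Pi.single j (1 : R) := by
    ext k; simp [Finset.sum_apply, Pi.single_apply]
  rw [hai, map_sum, map_sum] at hi
  simp only [map_smul] at hi
  have hxy' : (x i : M) = ∑ j, a i j • y j := hxy i
  simp only [Submodule.coe_sum, Submodule.coe_smul, smul_sub, Finset.sum_sub_distrib, hi, sub_zero,
    hxy']

/-- A universally exact sequence with finitely presented cokernel splits. -/
theorem exists_section {L₀ : Type u} [AddCommGroup L₀] [Module R L₀]
    [Module.FinitePresentation R N] (f : L₀ →ₗ[R] M) (g : M →ₗ[R] N)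
    (hexact : Function.Exact f g) (hg : Function.Surjective g)
    (hf : UniversallyInjective R f) : ∃ s : N →ₗ[R] M, g ∘ₗ s = LinearMap.id := by
  classical
  obtain ⟨n, K, e, hK⟩ := Module.FinitePresentation.exists_fin R N
  obtain ⟨m, r, hr⟩ := Submodule.fg_iff_exists_fin_generating_family.1 hK
  choose y hy using fun i : Fin n => hg (e.symm (K.mkQ (Pi.single i 1)))
  let l : (Fin n → R) →ₗ[R] M := Fintype.linearCombination R y
  have hl : g ∘ₗ l = e.symm.toLinearMap ∘ₗ K.mkQ := by
    ext i; simp [l, hy]
  have hrel : ∀ k, ∃ x, f x = ∑ i, r k i • y i := fun k => by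
    refine (hexact _).1 ?_
    have := LinearMap.congr_fun hl (r k)
    have hk : (Submodule.Quotient.mk (r k) : (Fin n → R) ⧸ K) = 0 :=
      (Submodule.Quotient.mk_eq_zero K).2 (hr ▸ Submodule.subset_span (Set.mem_range_self k))
    simp only [LinearMap.comp_apply, Submodule.mkQ_apply, hk, map_zero] at this
    simpa [l, Fintype.linearCombination_apply] using this
  choose x hx using hrel
  obtain ⟨z, hz⟩ := ((iff_equational f).1 hf).2 m n x y r hx
  let l' : (Fin n → R) →ₗ[R] M := Fintype.linearCombination R fun i => y i - f (z i)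
  have hl' : K ≤ LinearMap.ker l' := by
    rw [← hr, Submodule.span_le]
    rintro _ ⟨k, rfl⟩
    change l' (r k) = 0
    simp [l', Fintype.linearCombination_apply, smul_sub, Finset.sum_sub_distrib, ← hx, hz k, map_sum]
  refine ⟨K.liftQ l' hl' ∘ₗ e.toLinearMap, LinearMap.ext fun v => ?_⟩
  obtain ⟨v, rfl⟩ := e.symm.surjective v
  obtain ⟨v, rfl⟩ := K.mkQ_surjective v
  have : g ∘ₗ l' = g ∘ₗ l := by
    ext i; simp [l, l', hexact.apply_apply_eq_zero]
  simpa using (LinearMap.congr_fun this v).trans (LinearMap.congr_fun hl v)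

theorem rTensor_injective_of_flat_right {L₀ K F : Type u} [AddCommGroup L₀] [Module R L₀]
    [AddCommGroup K] [Module R K] [AddCommGroup F] [Module R F] [Module.Flat R N] [Module.Flat R F]
    (f : L₀ →ₗ[R] M) (g : M →ₗ[R] N) (hf : Function.Injective f)
    (hexact : Function.Exact f g) (hg : Function.Surjective g)
    (ι : K →ₗ[R] F) (π : F →ₗ[R] Q) (hι : Function.Injective ι)
    (hex : Function.Exact ι π) (hπ : Function.Surjective π) :
    Function.Injective (f.rTensor Q) := by
  rw [injective_iff_map_eq_zero]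
  intro x hx
  obtain ⟨xt, rfl⟩ := LinearMap.lTensor_surjective L₀ hπ x
  rw [← LinearMap.comp_apply, LinearMap.rTensor_comp_lTensor, ← LinearMap.lTensor_comp_rTensor,
    LinearMap.comp_apply] at hx
  obtain ⟨w, hw⟩ := (lTensor_exact M hex hπ _).1 hx
  have hgw : g.rTensor K w = 0 := by
    apply Module.Flat.lTensor_preserves_injective_linearMap (M := N) ι hι
    rw [map_zero, ← LinearMap.comp_apply, LinearMap.lTensor_comp_rTensor,
      ← LinearMap.rTensor_comp_lTensor, LinearMap.comp_apply, hw, ← LinearMap.rTensor_comp_apply,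
      hexact.linearMap_comp_eq_zero, LinearMap.rTensor_zero, LinearMap.zero_apply]
  obtain ⟨v, hv⟩ := (rTensor_exact K hexact hg _).1 hgw
  have : ι.lTensor L₀ v = xt := by
    apply Module.Flat.rTensor_preserves_injective_linearMap (M := F) f hf
    rw [← LinearMap.comp_apply, LinearMap.rTensor_comp_lTensor, ← LinearMap.lTensor_comp_rTensor,
      LinearMap.comp_apply, hv, hw]
  exact (lTensor_exact L₀ hex hπ _).2 ⟨v, this⟩

/-- A short exact sequence with flat last term is universally exact. -/
theorem of_flat_right {L₀ : Type u} [AddCommGroup L₀] [Module R L₀] [Module.Flat R N]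
    (f : L₀ →ₗ[R] M) (g : M →ₗ[R] N) (hf : Function.Injective f)
    (hexact : Function.Exact f g) (hg : Function.Surjective g) : UniversallyInjective R f :=
  fun Q _ _ =>
    rTensor_injective_of_flat_right (K := ↥(LinearMap.ker (Finsupp.linearCombination R (id : Q → Q))))
      (F := Q →₀ R) f g hf hexact hg (Submodule.subtype _) _ Subtype.val_injective
      (LinearMap.exact_subtype_ker_map _) (fun q => ⟨Finsupp.single q 1, by simp⟩)

/-- A quotient of a flat module by a submodule which stays injective modulo ideals is flat. -/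
theorem flat_right {L₀ : Type u} [AddCommGroup L₀] [Module R L₀] [Module.Flat R M]
    (f : L₀ →ₗ[R] M) (g : M →ₗ[R] N) (hexact : Function.Exact f g) (hg : Function.Surjective g)
    (hf : ∀ I : Ideal R, I.FG → Function.Injective (f.rTensor (R ⧸ I))) : Module.Flat R N := by
  rw [Module.Flat.iff_lTensor_injective]
  intro I hI
  rw [injective_iff_map_eq_zero]
  intro w hw
  obtain ⟨wt, rfl⟩ := LinearMap.rTensor_surjective I hg w
  let ι := I.subtype
  let π : R →ₗ[R] R ⧸ I := Submodule.mkQ I
  have hex : Function.Exact ι π := LinearMap.exact_subtype_mkQ I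
  have hπ : Function.Surjective π := Submodule.mkQ_surjective I
  rw [← LinearMap.comp_apply, LinearMap.lTensor_comp_rTensor, ← LinearMap.rTensor_comp_lTensor,
    LinearMap.comp_apply] at hw
  obtain ⟨xt, hxt⟩ := (rTensor_exact R hexact hg _).1 hw
  have hxt0 : π.lTensor L₀ xt = 0 := by
    apply hf I hI
    rw [map_zero, ← LinearMap.comp_apply, LinearMap.rTensor_comp_lTensor,
      ← LinearMap.lTensor_comp_rTensor, LinearMap.comp_apply, hxt, ← LinearMap.lTensor_comp_apply,
      hex.linearMap_comp_eq_zero, LinearMap.lTensor_zero, LinearMap.zero_apply]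
  obtain ⟨v, hv⟩ := (lTensor_exact L₀ hex hπ _).1 hxt0
  have hwt : f.rTensor I v = wt := by
    apply Module.Flat.lTensor_preserves_injective_linearMap (M := M) ι Subtype.val_injective
    rw [← LinearMap.comp_apply, LinearMap.lTensor_comp_rTensor, ← LinearMap.rTensor_comp_lTensor,
      LinearMap.comp_apply, hv, hxt]
  rw [← hwt, ← LinearMap.rTensor_comp_apply, hexact.linearMap_comp_eq_zero,
    LinearMap.rTensor_zero, LinearMap.zero_apply]

/-- The source of a universally injective map into a flat module is flat. -/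
theorem flat_left [Module.Flat R N] (f : M →ₗ[R] N) (hf : UniversallyInjective R f) :
    Module.Flat R M := by
  rw [Module.Flat.iff_lTensor_injective]
  intro I _
  have hcomp : f.rTensor R ∘ₗ I.subtype.lTensor M = I.subtype.lTensor N ∘ₗ f.rTensor I :=
    by
    rw [LinearMap.rTensor_comp_lTensor, LinearMap.lTensor_comp_rTensor]
  have : Function.Injective (f.rTensor R ∘ₗ I.subtype.lTensor M) := by
    rw [hcomp]
    exact (Module.Flat.lTensor_preserves_injective_linearMap I.subtype
      Subtype.val_injective).comp (hf I)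
  exact Function.Injective.of_comp this

end Groth.Agent.Lib.Pure.UI
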