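import Groth.Prelude.Def_Found
import Groth.Agent.Lib.Pure.UI

/-!
Mittag-Leffler modules: formal properties and the characterisation by domination.
-/

set_option autoImplicit false

universe u

open TensorProduct CAlgX CAlg

namespace Groth.Agent.Lib.Pure.ML

variable {R : Type u} [CommRing R]
variable {M N P L : Type u} [AddCommGroup M] [Module R M] [AddCommGroup N] [Module R N]
  [AddCommGroup P] [Module R P] [AddCommGroup L] [Module R L]

theorem piRightHom_natural (f : M →ₗ[R] N) {ι : Type u} (Q : ι → Type u)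
    [∀ i, AddCommGroup (Q i)] [∀ i, Module R (Q i)] (x : M ⊗[R] (∀ i, Q i)) (i : ι) :
    piRightHom R R N Q (f.rTensor _ x) i = f.rTensor (Q i) (piRightHom R R M Q x i) := by
  induction x using TensorProduct.induction_on with
  | zero => simp
  | tmul m q => simp
  | add a b ha hb => simp only [map_add, Pi.add_apply, ha, hb]

theorem piRightHom_bijective_fin (n : ℕ) {ι : Type u} (Q : ι → Type u)
    [∀ i, AddCommGroup (Q i)] [∀ i, Module R (Q i)] :
    Function.Bijective (piRightHom R R (Fin n → R) Q) := by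
  classical
  let e : ∀ (X : Type u) [AddCommGroup X] [Module R X], (Fin n → R) ⊗[R] X ≃ₗ[R] (Fin n → X) :=
    fun X _ _ => (TensorProduct.comm R (Fin n → R) X).trans (piScalarRight R R X (Fin n))
  have key : ∀ (x : (Fin n → R) ⊗[R] (∀ i, Q i)) (i : ι) (k : Fin n),
      e (Q i) (piRightHom R R (Fin n → R) Q x i) k = e (∀ i, Q i) x k i := by
    intro x i k
    induction x using TensorProduct.induction_on with
    | zero => simp
    | tmul m q => simp [e, piScalarRightHom_tmul]
    | add a b ha hb => simp only [map_add, Pi.add_apply, ha, hb]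
  refine ⟨fun x y h => (e _).injective ?_, fun y => ⟨(e _).symm fun k i => e (Q i) (y i) k, ?_⟩⟩
  · funext k i
    rw [← key, ← key, h]
  · funext i
    apply (e (Q i)).injective
    funext k
    rw [key, LinearEquiv.apply_symm_apply]

theorem piRightHom_surjective [Module.Finite R M] {ι : Type u} (Q : ι → Type u)
    [∀ i, AddCommGroup (Q i)] [∀ i, Module R (Q i)] :
    Function.Surjective (piRightHom R R M Q) := by
  obtain ⟨n, π, hπ⟩ := Module.Finite.exists_fin' R M
  intro y
  choose y' hy' using fun i => LinearMap.rTensor_surjective (Q i) hπ (y i)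
  obtain ⟨x, hx⟩ := (piRightHom_bijective_fin n Q).2 y'
  refine ⟨π.rTensor _ x, ?_⟩
  funext i
  rw [piRightHom_natural, hx, hy']

/-- Componentwise vanishing in a quotient of a Mittag-Leffler module by a finitely generated one. -/
theorem quotient (N₀ : Submodule R M) (hN : N₀.FG) (hM : IsMittagLeffler R M) :
    IsMittagLeffler R (M ⧸ N₀) := by
  intro ι Q _ _
  have : Module.Finite R N₀ := Module.Finite.of_fg hN
  rw [injective_iff_map_eq_zero]
  intro x hx
  obtain ⟨xt, rfl⟩ := LinearMap.rTensor_surjective _ N₀.mkQ_surjective x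
  have hex : Function.Exact N₀.subtype N₀.mkQ := LinearMap.exact_subtype_mkQ N₀
  choose w hw using fun i =>
    (rTensor_exact (Q i) hex N₀.mkQ_surjective (piRightHom R R M Q xt i)).1
      (by rw [← piRightHom_natural, hx]; rfl)
  obtain ⟨v, hv⟩ := piRightHom_surjective (M := N₀) Q w
  have : N₀.subtype.rTensor _ v = xt := hM ι Q (funext fun i => by
    rw [piRightHom_natural, hv, hw])
  exact (rTensor_exact _ hex N₀.mkQ_surjective _).2 ⟨v, this⟩

theorem of_ui (f : M →ₗ[R] N) (hf : UniversallyInjective R f) (hN : IsMittagLeffler R N) :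
    IsMittagLeffler R M := by
  intro ι Q _ _
  rw [injective_iff_map_eq_zero]
  intro x hx
  refine (injective_iff_map_eq_zero _).1 (hf _) x ((injective_iff_map_eq_zero _).1 (hN ι Q) _ ?_)
  funext i
  rw [piRightHom_natural, hx]
  simp

theorem of_equiv (e : M ≃ₗ[R] N) (hM : IsMittagLeffler R M) : IsMittagLeffler R N :=
  of_ui _ (UI.linearEquiv e.symm) hM

theorem of_fp [Module.FinitePresentation R M] : IsMittagLeffler R M := by
  obtain ⟨n, K, e, hK⟩ := Module.FinitePresentation.exists_fin R M
  exact of_equiv e.symm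
    (quotient K hK fun ι Q _ _ => (piRightHom_bijective_fin n Q).1)

theorem piRightHom_bijective_of_fp [Module.FinitePresentation R M] {ι : Type u} (Q : ι → Type u)
    [∀ i, AddCommGroup (Q i)] [∀ i, Module R (Q i)] :
    Function.Bijective (piRightHom R R M Q) :=
  ⟨of_fp ι Q, piRightHom_surjective Q⟩

/-- `g` dominates `f`: after any tensor product the kernel of `f` is contained in that of `g`. -/
def Dominates (f : M →ₗ[R] N) (g : M →ₗ[R] L) : Prop :=
  ∀ (Q : Type u) [AddCommGroup Q] [Module R Q], LinearMap.ker (f.rTensor Q) ≤ LinearMap.ker (g.rTensor Q)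

theorem dominates_of_factor {f : M →ₗ[R] N} {g : M →ₗ[R] L} (h : L →ₗ[R] N) (hf : f = h ∘ₗ g) :
    Dominates g f := fun Q _ _ => by
  subst hf
  rw [LinearMap.rTensor_comp]
  exact LinearMap.ker_le_ker_comp _ _

/-- The construction of a dominating factorisation through a finitely presented module. -/
theorem exists_dominating_of (f : P →ₗ[R] M) [Module.Finite R P]
    (H : ∀ (ι : Type u) (Q : ι → Type u) [∀ i, AddCommGroup (Q i)] [∀ i, Module R (Q i)]
      (x : ∀ i, P ⊗[R] Q i), (∀ i, f.rTensor (Q i) (x i) = 0) →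
      ∃ (L : Type u) (_ : AddCommGroup L) (_ : Module R L) (_ : Module.FinitePresentation R L)
        (g : P →ₗ[R] L) (h : L →ₗ[R] M), f = h ∘ₗ g ∧ ∀ i, g.rTensor (Q i) (x i) = 0) :
    ∃ (L : Type u) (_ : AddCommGroup L) (_ : Module R L) (_ : Module.FinitePresentation R L)
      (g : P →ₗ[R] L) (h : L →ₗ[R] M), f = h ∘ₗ g ∧ Dominates f g := by
  let J : Type u := Σ n : ℕ, Σ K : {K : Submodule R (Fin n → R) // K.FG},
    LinearMap.ker (f.rTensor ((Fin n → R) ⧸ K.1))
  let Qf : J → Type u := fun a => (Fin a.1 → R) ⧸ a.2.1.1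
  obtain ⟨L, i₁, i₂, i₃, g, h, hfac, hg⟩ :=
    H J Qf (fun a => a.2.2.1) (fun a => LinearMap.mem_ker.1 a.2.2.2)
  refine ⟨L, i₁, i₂, i₃, g, h, hfac, fun X _ _ => UI.ker_rTensor_le_of_fp f g ?_ X⟩
  intro X' _ _ hX' x hx
  obtain ⟨n, K, e, hK⟩ := Module.FinitePresentation.exists_fin R X'
  have hx' : e.toLinearMap.lTensor P x ∈ LinearMap.ker (f.rTensor ((Fin n → R) ⧸ K)) := by
    rw [LinearMap.mem_ker, ← LinearMap.comp_apply, LinearMap.rTensor_comp_lTensor,
      ← LinearMap.lTensor_comp_rTensor, LinearMap.comp_apply, LinearMap.mem_ker.1 hx, map_zero]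
  have h1 : g.rTensor ((Fin n → R) ⧸ K) (e.toLinearMap.lTensor P x) = 0 :=
    hg ⟨n, ⟨K, hK⟩, _, hx'⟩
  rw [← LinearMap.comp_apply, LinearMap.rTensor_comp_lTensor, ← LinearMap.lTensor_comp_rTensor,
    LinearMap.comp_apply] at h1
  exact (e.lTensor L).map_eq_zero_iff.1 h1

theorem exists_dominating (hM : IsMittagLeffler R M) [Module.FinitePresentation R P]
    (f : P →ₗ[R] M) :
    ∃ (L : Type u) (_ : AddCommGroup L) (_ : Module R L) (_ : Module.FinitePresentation R L)
      (g : P →ₗ[R] L) (h : L →ₗ[R] M), f = h ∘ₗ g ∧ Dominates f g := by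
  refine exists_dominating_of f fun ι Q _ _ x hx => ?_
  obtain ⟨z, hz⟩ := piRightHom_surjective (M := P) Q x
  have h0 : f.rTensor _ z = 0 := (injective_iff_map_eq_zero _).1 (hM ι Q) _ (funext fun i => by
    rw [piRightHom_natural, hz]; exact hx i)
  obtain ⟨L, i₁, i₂, i₃, g, h, hfac, hg⟩ := UI.exists_fp_factor f z h0
  exact ⟨L, i₁, i₂, i₃, g, h, hfac, fun i => by
    rw [← hz, ← piRightHom_natural, hg, map_zero]; rfl⟩

theorem ker_eq_of_dominating {f : P →ₗ[R] M} {g : P →ₗ[R] L} {h : L →ₗ[R] M}
    (hfac : f = h ∘ₗ g) (hd : Dominates f g) (Q : Type u) [AddCommGroup Q] [Module R Q] :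
    LinearMap.ker (f.rTensor Q) = LinearMap.ker (g.rTensor Q) :=
  le_antisymm (hd Q) (dominates_of_factor h hfac Q)

theorem of_dominating
    (h : ∀ (n : ℕ) (f : (Fin n → R) →ₗ[R] M),
      ∃ (Q : Type u) (_ : AddCommGroup Q) (_ : Module R Q) (_ : Module.FinitePresentation R Q)
        (g : (Fin n → R) →ₗ[R] Q),
        ∀ (N : Type u) [AddCommGroup N] [Module R N],
          LinearMap.ker (f.rTensor N) = LinearMap.ker (g.rTensor N)) :
    IsMittagLeffler R M := by
  classical
  intro ι Q _ _
  rw [injective_iff_map_eq_zero]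
  intro x hx
  obtain ⟨S, hS⟩ := TensorProduct.exists_finset x
  let f : (Fin S.card → R) →ₗ[R] M :=
    Fintype.linearCombination R fun k => (S.equivFin.symm k).1.1
  let z : (Fin S.card → R) ⊗[R] (∀ i, Q i) :=
    ∑ k, (Pi.single k 1 : Fin S.card → R) ⊗ₜ (S.equivFin.symm k).1.2
  have hz : f.rTensor _ z = x := by
    simp only [z, map_sum, LinearMap.rTensor_tmul, f, Fintype.linearCombination_apply_single,
      one_smul]
    rw [hS, Equiv.sum_comp S.equivFin.symm (fun p : S => p.1.1 ⊗ₜ[R] p.1.2)]
    exact Finset.sum_coe_sort S (fun p : M × (∀ i, Q i) => p.1 ⊗ₜ[R] p.2)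
  obtain ⟨L, i₁, i₂, i₃, g, hg⟩ := h _ f
  have h0 : g.rTensor _ z = 0 := (injective_iff_map_eq_zero _).1 (of_fp (M := L) ι Q) _
    (funext fun i => by
      rw [piRightHom_natural]
      have : piRightHom R R _ Q z i ∈ LinearMap.ker (f.rTensor (Q i)) := by
        rw [LinearMap.mem_ker, ← piRightHom_natural, hz, hx]; rfl
      rw [hg (Q i)] at this
      exact this)
  have : z ∈ LinearMap.ker (f.rTensor (∀ i, Q i)) := by rw [hg _]; exact h0
  rw [← hz, LinearMap.mem_ker.1 this]

theorem finitePresentation_tensor [Module.FinitePresentation R M] [Module.FinitePresentation R N] :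
    Module.FinitePresentation R (M ⊗[R] N) := by
  classical
  obtain ⟨n, K, e, hK⟩ := Module.FinitePresentation.exists_fin R M
  have : Module.FinitePresentation R ((Fin n → R) ⊗[R] N) :=
    .of_equiv ((TensorProduct.comm R (Fin n → R) N).trans (piScalarRight R R N (Fin n))).symm
  have : Module.FinitePresentation R (((Fin n → R) ⧸ K) ⊗[R] N) := by
    have : Module.Finite R K := Module.Finite.of_fg hK
    refine Module.finitePresentation_of_surjective (K.mkQ.rTensor N)
      (LinearMap.rTensor_surjective N K.mkQ_surjective) ?_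
    rw [LinearMap.exact_iff.1 (rTensor_exact N (LinearMap.exact_subtype_mkQ K) K.mkQ_surjective)]
    exact Submodule.fg_range _
  exact .of_equiv (e.symm.rTensor N)

/-- The tensor product of Mittag-Leffler modules. -/
theorem tensor (hM : IsMittagLeffler R M) (hN : IsMittagLeffler R N) :
    IsMittagLeffler R (M ⊗[R] N) := by
  classical
  refine of_dominating fun n φ => ?_
  choose S hS using fun k : Fin n => TensorProduct.exists_finset (φ (Pi.single k 1))
  let T := Finset.univ.biUnion S
  let f : (Fin T.card → R) →ₗ[R] M :=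
    Fintype.linearCombination R fun k => (T.equivFin.symm k).1.1
  let f' : (Fin T.card → R) →ₗ[R] N :=
    Fintype.linearCombination R fun k => (T.equivFin.symm k).1.2
  let k₀ : (Fin n → R) →ₗ[R] (Fin T.card → R) ⊗[R] (Fin T.card → R) :=
    Fintype.linearCombination R fun k => ∑ p ∈ (S k).attach,
      let j := T.equivFin ⟨p.1, Finset.mem_biUnion.2 ⟨k, Finset.mem_univ _, p.2⟩⟩
      (Pi.single j 1 : Fin T.card → R) ⊗ₜ[R] (Pi.single j 1 : Fin T.card → R)
  have hk₀ : TensorProduct.map f f' ∘ₗ k₀ = φ := by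
    apply LinearMap.pi_ext'
    intro k
    ext
    simp only [LinearMap.comp_apply, LinearMap.coe_single, k₀,
      Fintype.linearCombination_apply_single, one_smul, map_sum, TensorProduct.map_tmul, f, f',
      Equiv.symm_apply_apply]
    rw [hS k]
    exact Finset.sum_attach (S k) (fun p : M × N => p.1 ⊗ₜ[R] p.2)
  obtain ⟨L, i₁, i₂, i₃, g, h, hfg, hd⟩ := exists_dominating hM f
  obtain ⟨L', j₁, j₂, j₃, g', h', hfg', hd'⟩ := exists_dominating hN f'
  refine ⟨L ⊗[R] L', inferInstance, inferInstance, finitePresentation_tensor,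
    TensorProduct.map g g' ∘ₗ k₀, fun X _ _ => ?_⟩
  rw [← hk₀, LinearMap.rTensor_comp, LinearMap.rTensor_comp, LinearMap.ker_comp, LinearMap.ker_comp]
  have hx : ∀ {A B C : Type u} [AddCommGroup A] [Module R A] [AddCommGroup B] [Module R B]
      [AddCommGroup C] [Module R C] (u₁ : A →ₗ[R] B) (v : C →ₗ[R] N) (z : (A ⊗[R] C) ⊗[R] X),
      (TensorProduct.assoc R B N X) ((TensorProduct.map u₁ v).rTensor X z)
        = u₁.rTensor (N ⊗[R] X) ((v.rTensor X).lTensor A (TensorProduct.assoc R A C X z)) := by
    intro A B C _ _ _ _ _ _ u₁ v z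
    induction z using TensorProduct.induction_on with
    | zero => simp
    | tmul a x =>
      induction a using TensorProduct.induction_on with
      | zero => simp
      | tmul a b => simp
      | add a b ha hb => simp only [add_tmul, map_add, ha, hb]
    | add a b ha hb => simp only [map_add, ha, hb]
  have hy : ∀ {A B C : Type u} [AddCommGroup A] [Module R A] [AddCommGroup B] [Module R B]
      [AddCommGroup C] [Module R C] (v : A →ₗ[R] B) (u₁ : C →ₗ[R] L) (z : (C ⊗[R] A) ⊗[R] X),
      TensorProduct.leftComm R L B X (TensorProduct.assoc R L B X ((TensorProduct.map u₁ v).rTensor X z))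
        = v.rTensor (L ⊗[R] X) ((u₁.rTensor X).lTensor A
            (TensorProduct.leftComm R C A X (TensorProduct.assoc R C A X z))) := by
    intro A B C _ _ _ _ _ _ v u₁ z
    induction z using TensorProduct.induction_on with
    | zero => simp
    | tmul a x =>
      induction a using TensorProduct.induction_on with
      | zero => simp
      | tmul a b => simp
      | add a b ha hb => simp only [add_tmul, map_add, ha, hb]
    | add a b ha hb => simp only [map_add, ha, hb]
  congr 1
  ext z
  simp only [LinearMap.mem_ker]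
  rw [← (TensorProduct.assoc R M N X).map_eq_zero_iff, hx, ← LinearMap.mem_ker,
    ker_eq_of_dominating hfg hd, LinearMap.mem_ker, ← hx,
    ← (TensorProduct.leftComm R L N X).map_eq_zero_iff, hy, ← LinearMap.mem_ker,
    ker_eq_of_dominating hfg' hd', LinearMap.mem_ker, ← hy,
    (TensorProduct.leftComm R L L' X).map_eq_zero_iff, (TensorProduct.assoc R L L' X).map_eq_zero_iff]

end Groth.Agent.Lib.Pure.ML
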