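import Groth.Agent.Lib.Pure.Chain
import Groth.Agent.Lib.Pure.Kaplansky
import Groth.Agent.Lib.Pure.LocalFree
import Groth.Agent.S6337

/-!
Decomposition of projective modules into countably generated ones.
-/

set_option autoImplicit false

universe u

open CAlg

namespace Groth.Agent.Lib.Pure.Decomp

variable {R : Type u} [CommRing R] {M : Type u} [AddCommGroup M] [Module R M]

theorem ml_finsupp (ι : Type u) : IsMittagLeffler R (ι →₀ R) := by
  classical
  exact ML.of_equiv (finsuppLEquivDirectSum R R ι).symm
    ((Groth.Agent.S6337.result R fun _ : ι => R).2 fun _ => ML.of_fp)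

theorem ml_of_projective [Module.Projective R M] : IsMittagLeffler R M := by
  obtain ⟨s, hs⟩ := (Module.projective_def (R := R) (P := M)).1 inferInstance
  exact ML.of_ui s (UI.of_leftInverse (g := Finsupp.linearCombination R id) (LinearMap.ext hs))
    (ml_finsupp M)

open Classical in
theorem exists_retraction_of_internal {ι : Type u} (N : ι → Submodule R M)
    (hN : DirectSum.IsInternal N) (i : ι) :
    ∃ r : M →ₗ[R] N i, r ∘ₗ (N i).subtype = LinearMap.id := by
  obtain ⟨p, hp1, -, hp3⟩ := Kaplansky.exists_projector N hN {i}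
  have h : Kaplansky.part N {i} = N i := iSup_singleton
  exact ⟨p.codRestrict (N i) fun x => h ▸ hp3 x,
    LinearMap.ext fun x => Subtype.ext (hp1 x (h.symm ▸ x.2))⟩

open Classical in
theorem internal_of_injective {F : Type u} [AddCommGroup F] [Module R F] (s : M →ₗ[R] F)
    (hs : Function.Injective s) (𝓛 : Set (Submodule R F)) (h : sSupIndep 𝓛)
    (hsup : sSup 𝓛 = LinearMap.range s) (hc : ∀ L ∈ 𝓛, IsCountablyGenerated R L) :
    ∃ (ι : Type u) (N : ι → Submodule R M), DirectSum.IsInternal N ∧
      ∀ i, IsCountablyGenerated R (N i) := by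
  have hle : ∀ L : ↥𝓛, L.1 ≤ LinearMap.range s := fun L => hsup ▸ le_sSup L.2
  have hmap : ∀ L : ↥𝓛, (Submodule.comap s L.1).map s = L.1 := fun L => by
    rw [Submodule.map_comap_eq]; exact inf_eq_right.2 (hle L)
  suffices H : iSupIndep (fun L : ↥𝓛 => Submodule.comap s L.1) ∧
      (⨆ L : ↥𝓛, Submodule.comap s L.1) = ⊤ ∧
      ∀ L : ↥𝓛, IsCountablyGenerated R (Submodule.comap s L.1) by
    have key := (DirectSum.isInternal_submodule_iff_iSupIndep_and_iSup_eq_top
      (fun L : ↥𝓛 => Submodule.comap s L.1)).2 ⟨H.1, H.2.1⟩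
    exact ⟨↥𝓛, fun L => Submodule.comap s L.1, by convert key, H.2.2⟩
  refine ⟨?_, ?_, fun L => ?_⟩
  · intro L
    rw [Submodule.disjoint_def]
    intro x hx hx'
    have h1 : s x ∈ (⨆ K, ⨆ (_ : K ≠ L), Submodule.comap s (K : ↥𝓛).1).map s := ⟨x, hx', rfl⟩
    simp only [Submodule.map_iSup, hmap] at h1
    have hle2 : (⨆ K : ↥𝓛, ⨆ (_ : K ≠ L), K.1) ≤ sSup (𝓛 \ {L.1}) :=
      iSup₂_le fun K hK => le_sSup ⟨K.2, fun e => hK (Subtype.ext e)⟩
    exact hs ((Submodule.disjoint_def.1 (h L.2) _ hx (hle2 h1)).trans (map_zero s).symm)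
  · apply Submodule.map_injective_of_injective hs
    rw [Submodule.map_iSup, Submodule.map_top]
    simp only [hmap]
    rw [← sSup_eq_iSup', hsup]
  · obtain ⟨t, ht, hspan⟩ := (Kaplansky.countable_span_iff L.1).1 (hc L.1 L.2)
    refine (Kaplansky.countable_span_iff _).2 ⟨s ⁻¹' t, ht.preimage hs, ?_⟩
    apply Submodule.map_injective_of_injective hs
    rw [hmap, Submodule.map_span]
    rw [show s '' (s ⁻¹' t) = t from Set.image_preimage_eq_of_subset fun x hx =>
      hle L (hspan ▸ Submodule.subset_span hx), hspan]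

open Classical in
theorem exists_decomp [Module.Projective R M] :
    ∃ (ι : Type u) (N : ι → Submodule R M), DirectSum.IsInternal N ∧
      ∀ i, IsCountablyGenerated R (N i) := by
  obtain ⟨s, hs⟩ := (Module.projective_def (R := R) (P := M)).1 inferInstance
  let p := Finsupp.linearCombination R (id : M → M)
  let b := (Finsupp.basisSingleOne : Module.Basis M R (M →₀ R))
  let L : M → Submodule R (M →₀ R) := fun i => Submodule.span R {b i}
  have hL : DirectSum.IsInternal L :=
    (DirectSum.isInternal_submodule_iff_iSupIndep_and_iSup_eq_top L).2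
      ⟨b.linearIndependent.iSupIndep_span_singleton, by
        simp only [L]
        rw [← Submodule.span_iUnion, show (⋃ i, ({b i} : Set (M →₀ R))) = Set.range b by
          ext x; simp [eq_comm], b.span_eq]⟩
  obtain ⟨𝓛, h1, h2, h3⟩ := Kaplansky.summand L hL
    (fun i => (Kaplansky.countable_span_iff (L i)).2 ⟨_, Set.countable_singleton _, rfl⟩) (s ∘ₗ p)
    (fun x => congrArg s (hs (p x)))
  have hrange : LinearMap.range (s ∘ₗ p) = LinearMap.range s :=
    LinearMap.range_comp_of_range_eq_top _ (LinearMap.range_eq_top.2 hs.surjective)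
  exact internal_of_injective s hs.injective 𝓛 h1 (h2.trans hrange) h3

open Classical in
theorem projective_of_decomp [Module.Flat R M] (hM : IsMittagLeffler R M) {ι : Type u}
    (N : ι → Submodule R M) (hN : DirectSum.IsInternal N)
    (hc : ∀ i, IsCountablyGenerated R (N i)) : Module.Projective R M := by
  have : ∀ i, Module.Projective R (N i) := fun i => by
    obtain ⟨r, hr⟩ := exists_retraction_of_internal N hN i
    have : Module.Flat R (N i) := Module.Flat.of_retract (N i).subtype r hr
    exact Chain.projective_of_flat (ML.of_ui _ (UI.of_leftInverse hr) hM) (hc i)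
  exact Module.Projective.of_equiv (LinearEquiv.ofBijective (DirectSum.coeLinearMap N) hN)

open Classical in
theorem free_of_local [IsLocalRing R] [Module.Projective R M] : Module.Free R M := by
  obtain ⟨ι, N, hN, hc⟩ := exists_decomp (R := R) (M := M)
  have : ∀ i, Module.Free R (N i) := fun i => by
    obtain ⟨r, hr⟩ := exists_retraction_of_internal N hN i
    have : Module.Projective R (N i) := Module.Projective.of_split (N i).subtype r hr
    exact LocalFree.free_of_countable (hc i)
  exact Module.Free.of_basis (hN.collectedBasis fun i => Module.Free.chooseBasis R (N i))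

end Groth.Agent.Lib.Pure.Decomp
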