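import Groth.Agent.Lib.Pure.ML
import Mathlib.RingTheory.Flat.FaithfullyFlat.Basic
import Mathlib.RingTheory.Flat.FaithfullyFlat.Algebra
import Mathlib.RingTheory.Finiteness.ModuleFinitePresentation
import Mathlib.RingTheory.TensorProduct.Maps

/-!
Mittag-Leffler modules: smallest submodules in the flat case, change of rings, descent.
-/

set_option autoImplicit false

universe u

open TensorProduct CAlgX CAlg

namespace Groth.Agent.Lib.Pure.FlatML

section Flat

variable {R : Type u} [CommRing R] {M F : Type u} [AddCommGroup M] [Module R M] [AddCommGroup F]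
  [Module R F]

theorem mem_range_of_rTensor_eq_zero {N K : Type u} [AddCommGroup N] [Module R N] [AddCommGroup K]
    [Module R K] [Module.Flat R M] (ι : K →ₗ[R] F) (φ : F →ₗ[R] N) (h : Function.Exact ι φ)
    (x : F ⊗[R] M) (hx : φ.rTensor M x = 0) : x ∈ LinearMap.range (ι.rTensor M) :=
  (Module.Flat.rTensor_exact M h x).1 hx

theorem le_ker_of_rTensor_eq_zero {N : Type u} [AddCommGroup N] [Module R N] [Module.Flat R M]
    {F' : Submodule R F} {x : F ⊗[R] M}
    (hle : ∀ F'' : Submodule R F, x ∈ LinearMap.range (F''.subtype.rTensor M) → F' ≤ F'')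
    (φ : F →ₗ[R] N) (hx : φ.rTensor M x = 0) : F' ≤ LinearMap.ker φ :=
  hle _ (mem_range_of_rTensor_eq_zero (K := ↥(LinearMap.ker φ)) (LinearMap.ker φ).subtype φ
    (LinearMap.exact_subtype_ker_map φ) x hx)

theorem exists_smallest [Module.Flat R M] (hM : IsMittagLeffler R M) (x : F ⊗[R] M) :
    ∃ F' : Submodule R F, F'.FG ∧ x ∈ LinearMap.range (F'.subtype.rTensor M) ∧
      ∀ F'' : Submodule R F, x ∈ LinearMap.range (F''.subtype.rTensor M) → F' ≤ F'' := by
  classical
  let T : Type u := {G : Submodule R F // x ∈ LinearMap.range (G.subtype.rTensor M)}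
  let F' : Submodule R F := ⨅ G : T, G.1
  have hmem : x ∈ LinearMap.range (F'.subtype.rTensor M) := by
    let π : (F ⧸ F') →ₗ[R] ∀ G : T, F ⧸ G.1 :=
      F'.liftQ (LinearMap.pi fun G : T => G.1.mkQ) (by
        intro y hy
        ext G
        simpa [Submodule.Quotient.mk_eq_zero] using (Submodule.mem_iInf _).1 hy G)
    have hπ : Function.Injective π := by
      rw [injective_iff_map_eq_zero]
      intro y hy
      obtain ⟨y, rfl⟩ := F'.mkQ_surjective y
      rw [Submodule.mkQ_apply, Submodule.Quotient.mk_eq_zero]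
      refine (Submodule.mem_iInf _).2 fun G => ?_
      have h1 := congrFun hy G
      change G.1.mkQ y = 0 at h1
      simpa [Submodule.Quotient.mk_eq_zero] using h1
    have hexT : ∀ G : T, G.1.mkQ.rTensor M x = 0 := fun G =>
      (rTensor_exact M (LinearMap.exact_subtype_mkQ G.1) G.1.mkQ_surjective x).2 G.2
    refine (rTensor_exact M (LinearMap.exact_subtype_mkQ F') F'.mkQ_surjective x).1 ?_
    apply Module.Flat.rTensor_preserves_injective_linearMap (M := M) π hπ
    rw [map_zero, ← LinearMap.rTensor_comp_apply, show π ∘ₗ F'.mkQ = LinearMap.pi fun G : T => G.1.mkQ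
      from Submodule.liftQ_mkQ _ _ _]
    apply (TensorProduct.comm R _ M).injective
    rw [map_zero]
    refine (injective_iff_map_eq_zero _).1 (hM T fun G => F ⧸ G.1) _ (funext fun G => ?_)
    have key : ∀ z : F ⊗[R] M,
        piRightHom R R M (fun G : T => F ⧸ G.1)
          (TensorProduct.comm R _ M ((LinearMap.pi fun G : T => G.1.mkQ).rTensor M z)) G
        = TensorProduct.comm R _ M (G.1.mkQ.rTensor M z) := by
      intro z
      induction z using TensorProduct.induction_on with
      | zero => simp
      | tmul a b => simp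
      | add a b ha hb => simp only [map_add, Pi.add_apply, ha, hb]
    rw [key, hexT, map_zero, Pi.zero_apply]
  have hle : ∀ G : Submodule R F, x ∈ LinearMap.range (G.subtype.rTensor M) → F' ≤ G :=
    fun G hG => iInf_le (fun G : T => G.1) ⟨G, hG⟩
  refine ⟨F', ?_, hmem, hle⟩
  obtain ⟨v, hv⟩ := hmem
  obtain ⟨S, hS⟩ := TensorProduct.exists_finset v
  let G₀ : Submodule R F := Submodule.span R (↑(S.image fun p => (p.1 : F)) : Set F)
  have hG₀ : G₀ ≤ F' := by
    refine Submodule.span_le.2 fun y hy => ?_
    obtain ⟨p, -, rfl⟩ := Finset.mem_image.1 hy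
    exact p.1.2
  have hxG₀ : x ∈ LinearMap.range (G₀.subtype.rTensor M) := by
    rw [← hv, hS, map_sum]
    refine Submodule.sum_mem _ fun p hp => ?_
    exact ⟨(⟨p.1, Submodule.subset_span (Finset.mem_image_of_mem _ hp)⟩ : G₀) ⊗ₜ p.2, by simp⟩
  rw [le_antisymm (hle G₀ hxG₀) hG₀]
  exact Submodule.fg_span (Finset.finite_toSet _)

theorem of_smallest [Module.Flat R M]
    (h : ∀ (n : ℕ) (x : (Fin n → R) ⊗[R] M), ∃ F' : Submodule R (Fin n → R),
      x ∈ LinearMap.range (F'.subtype.rTensor M) ∧
      ∀ F'' : Submodule R (Fin n → R), x ∈ LinearMap.range (F''.subtype.rTensor M) → F' ≤ F'') :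
    IsMittagLeffler R M := by
  classical
  intro ι Q _ _
  rw [injective_iff_map_eq_zero]
  intro x hx
  obtain ⟨S, hS⟩ := TensorProduct.exists_finset x
  let φ : (Fin S.card → R) →ₗ[R] ∀ i, Q i :=
    Fintype.linearCombination R fun k => (S.equivFin.symm k).1.2
  let z : (Fin S.card → R) ⊗[R] M :=
    ∑ k, (Pi.single k 1 : Fin S.card → R) ⊗ₜ (S.equivFin.symm k).1.1
  have hz : TensorProduct.comm R _ M (φ.rTensor M z) = x := by
    simp only [z, map_sum, LinearMap.rTensor_tmul, φ, Fintype.linearCombination_apply_single,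
      one_smul, TensorProduct.comm_tmul]
    rw [hS, Equiv.sum_comp S.equivFin.symm (fun p : S => p.1.1 ⊗ₜ[R] p.1.2)]
    exact Finset.sum_coe_sort S (fun p : M × (∀ i, Q i) => p.1 ⊗ₜ[R] p.2)
  obtain ⟨F', ⟨v, hv⟩, hle⟩ := h _ z
  have hker : ∀ i, F' ≤ LinearMap.ker (LinearMap.proj i ∘ₗ φ) := fun i => by
    refine le_ker_of_rTensor_eq_zero hle _ ?_
    apply (TensorProduct.comm R (Q i) M).injective
    have key : ∀ w, TensorProduct.comm R (Q i) M ((LinearMap.proj i ∘ₗ φ).rTensor M w)
        = piRightHom R R M Q (TensorProduct.comm R _ M (φ.rTensor M w)) i := by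
      intro w
      induction w using TensorProduct.induction_on with
      | zero => simp
      | tmul a b => simp
      | add a b ha hb => simp only [map_add, Pi.add_apply, ha, hb]
    rw [key, hz, hx, map_zero, Pi.zero_apply]
  have : φ ∘ₗ F'.subtype = 0 := by
    ext y i
    simpa using hker i y.2
  rw [← hz, ← hv, ← LinearMap.rTensor_comp_apply, this, LinearMap.rTensor_zero,
    LinearMap.zero_apply, map_zero]

end Flat

section Noetherian

variable {R : Type u} [CommRing R] (A : Type u)

/-- `X ⊗ R^A → X^A`. -/
noncomputable def evalMap (X : Type u) [AddCommGroup X] [Module R X] :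
    X ⊗[R] (A → R) →ₗ[R] (A → X) :=
  LinearMap.pi fun a => (TensorProduct.rid R X).toLinearMap ∘ₗ (LinearMap.proj a).lTensor X

theorem evalMap_eq (X : Type u) [AddCommGroup X] [Module R X] (z : X ⊗[R] (A → R)) (a : A) :
    evalMap A X z a = TensorProduct.rid R X (piRightHom R R X (fun _ : A => R) z a) := by
  induction z using TensorProduct.induction_on with
  | zero => simp
  | tmul x f => simp [evalMap]
  | add a b ha hb => simp only [map_add, Pi.add_apply, ha, hb]

theorem evalMap_natural {X Y : Type u} [AddCommGroup X] [Module R X] [AddCommGroup Y] [Module R Y]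
    (f : X →ₗ[R] Y) (z : X ⊗[R] (A → R)) (a : A) :
    evalMap A Y (f.rTensor _ z) a = f (evalMap A X z a) := by
  induction z using TensorProduct.induction_on with
  | zero => simp
  | tmul x g => simp [evalMap]
  | add a b ha hb => simp only [map_add, Pi.add_apply, ha, hb]

theorem evalMap_bijective [IsNoetherianRing R] (X : Type u) [AddCommGroup X] [Module R X] [Module.Finite R X] :
    Function.Bijective (evalMap A X : X ⊗[R] (A → R) →ₗ[R] (A → X)) := by
  have : Module.FinitePresentation R X := Module.finitePresentation_of_finite R X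
  have h := ML.piRightHom_bijective_of_fp (R := R) (M := X) (fun _ : A => R)
  refine ⟨fun x y hxy => h.1 (funext fun a => (TensorProduct.rid R X).injective ?_), fun y => ?_⟩
  · rw [← evalMap_eq, ← evalMap_eq, hxy]
  · obtain ⟨z, hz⟩ := h.2 fun a => (TensorProduct.rid R X).symm (y a)
    exact ⟨z, funext fun a => by rw [evalMap_eq, hz, LinearEquiv.apply_symm_apply]⟩

theorem flat_pi [IsNoetherianRing R] : Module.Flat R (A → R) := by
  rw [Module.Flat.iff_rTensor_injective]
  intro I _
  refine fun x y hxy => (evalMap_bijective A I).1 (funext fun a => Subtype.ext ?_)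
  have := congrArg (fun z => evalMap A R z a) hxy
  simpa [evalMap_natural] using this

theorem ml_pi [IsNoetherianRing R] : IsMittagLeffler R (A → R) := by
  have := flat_pi (R := R) A
  refine of_smallest fun n u => ?_
  let val := evalMap A (Fin n → R) u
  let F' : Submodule R (Fin n → R) := Submodule.span R (Set.range val)
  refine ⟨F', ?_, ?_⟩
  · have : Module.Finite R F' := Module.Finite.of_fg (IsNoetherian.noetherian F')
    obtain ⟨v, hv⟩ := (evalMap_bijective (R := R) A ↥F').2 fun a =>
      ⟨val a, Submodule.subset_span (Set.mem_range_self a)⟩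
    refine ⟨v, (evalMap_bijective A (Fin n → R)).1 (funext fun a => ?_)⟩
    rw [evalMap_natural, hv]
    rfl
  · rintro G ⟨v, hv⟩
    refine Submodule.span_le.2 ?_
    rintro _ ⟨a, rfl⟩
    change evalMap A _ u a ∈ G
    rw [← hv, evalMap_natural]
    exact (evalMap A G v a).2

end Noetherian

section ChangeOfRings

variable {R S : Type u} [CommRing R] [CommRing S] [Algebra R S]

/-- Transport of componentwise detection along `(S ⊗ M) ⊗_S X ≃ M ⊗_R X`. -/
noncomputable def bcEquiv (R S : Type u) [CommRing R] [CommRing S] [Algebra R S] (M X : Type u) [AddCommGroup M] [Module R M] [AddCommGroup X]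
    [Module R X] [Module S X] [IsScalarTower R S X] :
    (S ⊗[R] M) ⊗[S] X ≃+ M ⊗[R] X :=
  ((TensorProduct.comm S (S ⊗[R] M) X).toAddEquiv.trans
    (AlgebraTensorModule.cancelBaseChange R S S X M).toAddEquiv).trans
    (TensorProduct.comm R X M).toAddEquiv

theorem bcEquiv_tmul (M X : Type u) [AddCommGroup M] [Module R M] [AddCommGroup X]
    [Module R X] [Module S X] [IsScalarTower R S X] (s : S) (m : M) (x : X) :
    bcEquiv R S M X ((s ⊗ₜ m) ⊗ₜ x) = m ⊗ₜ (s • x) := rfl

variable {M : Type u} [AddCommGroup M] [Module R M]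

theorem bcEquiv_natural {ι : Type u} (Y : ι → Type u) [∀ i, AddCommGroup (Y i)]
    [∀ i, Module R (Y i)] [∀ i, Module S (Y i)] [∀ i, IsScalarTower R S (Y i)]
    (z : (S ⊗[R] M) ⊗[S] (∀ i, Y i)) (i : ι) :
    piRightHom R R M Y (bcEquiv R S M (∀ i, Y i) z) i
      = bcEquiv R S M (Y i) (piRightHom S S (S ⊗[R] M) Y z i) := by
  induction z using TensorProduct.induction_on with
  | zero => simp
  | add a b ha hb => simp only [map_add, Pi.add_apply, ha, hb]
  | tmul a y =>
    induction a using TensorProduct.induction_on with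
    | zero => simp
    | add a b ha hb => simp only [add_tmul, map_add, Pi.add_apply, ha, hb]
    | tmul s m => simp [bcEquiv_tmul]

theorem baseChange (hM : IsMittagLeffler R M) : IsMittagLeffler S (S ⊗[R] M) := by
  intro ι Y _ _
  let : ∀ i, Module R (Y i) := fun i => Module.compHom (Y i) (algebraMap R S)
  have : ∀ i, IsScalarTower R S (Y i) := fun i =>
    IsScalarTower.of_algebraMap_smul fun r y => rfl
  rw [injective_iff_map_eq_zero]
  intro z hz
  apply (bcEquiv R S M (∀ i, Y i)).injective
  rw [map_zero]
  refine (injective_iff_map_eq_zero _).1 (hM ι Y) _ (funext fun i => ?_)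
  rw [bcEquiv_natural, hz]
  simp

theorem injective_of_baseChange (h : IsMittagLeffler S (S ⊗[R] M)) {ι : Type u} (Y : ι → Type u)
    [∀ i, AddCommGroup (Y i)] [∀ i, Module R (Y i)] [∀ i, Module S (Y i)]
    [∀ i, IsScalarTower R S (Y i)] : Function.Injective (piRightHom R R M Y) := by
  rw [injective_iff_map_eq_zero]
  intro x hx
  obtain ⟨z, rfl⟩ := (bcEquiv R S M (∀ i, Y i)).surjective x
  have : z = 0 := (injective_iff_map_eq_zero _).1 (h ι Y) z (funext fun i => by
    apply (bcEquiv R S M (Y i)).injective
    rw [← bcEquiv_natural, hx]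
    simp)
  rw [this, map_zero]

theorem descent [Module.FaithfullyFlat R S] (h : IsMittagLeffler S (S ⊗[R] M)) :
    IsMittagLeffler R M := by
  refine ML.of_dominating fun n f => ?_
  obtain ⟨L, i₁, i₂, i₃, g, k, hfac, hd⟩ := ML.exists_dominating_of f (fun ι Q _ _ x hx => by
    let ε : ∀ i, Q i →ₗ[R] S ⊗[R] Q i := fun i => TensorProduct.mk R S (Q i) 1
    obtain ⟨z, hz⟩ := ML.piRightHom_surjective (M := Fin n → R) (fun i => S ⊗[R] Q i)
      (fun i => (ε i).lTensor _ (x i))
    have h0 : f.rTensor _ z = 0 :=
      (injective_iff_map_eq_zero _).1 (injective_of_baseChange h (fun i => S ⊗[R] Q i)) _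
        (funext fun i => by
          rw [ML.piRightHom_natural, hz, ← LinearMap.comp_apply, LinearMap.rTensor_comp_lTensor,
            ← LinearMap.lTensor_comp_rTensor, LinearMap.comp_apply, hx i, map_zero]
          rfl)
    obtain ⟨L, i₁, i₂, i₃, g, k, hfac, hg⟩ := UI.exists_fp_factor f z h0
    refine ⟨L, i₁, i₂, i₃, g, k, hfac, fun i => ?_⟩
    have hi : (ε i).lTensor L (g.rTensor (Q i) (x i)) = 0 := by
      rw [← LinearMap.comp_apply, LinearMap.lTensor_comp_rTensor, ← LinearMap.rTensor_comp_lTensor,
        LinearMap.comp_apply, ← congrFun hz i, ← ML.piRightHom_natural g (fun i => S ⊗[R] Q i), hg,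
        map_zero]
      rfl
    have hl : ∀ w : L ⊗[R] Q i, TensorProduct.leftComm R L S (Q i) ((ε i).lTensor L w)
        = TensorProduct.mk R S (L ⊗[R] Q i) 1 w := by
      intro w
      induction w using TensorProduct.induction_on with
      | zero => simp
      | tmul a b => simp [ε]
      | add a b ha hb => simp only [map_add, ha, hb]
    apply Module.FaithfullyFlat.tensorProduct_mk_injective (A := R) (B := S) (L ⊗[R] Q i)
    rw [← hl, hi, map_zero, map_zero])
  exact ⟨L, i₁, i₂, i₃, g, fun N _ _ => ML.ker_eq_of_dominating hfac hd N⟩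

variable {N : Type u} [AddCommGroup N] [Module S N] [Module R N] [IsScalarTower R S N]

theorem restrict_of_injective (hN : IsMittagLeffler S N)
    (hθ : ∀ (ι : Type u) (Q : ι → Type u) [∀ i, AddCommGroup (Q i)] [∀ i, Module R (Q i)],
      Function.Injective ((piRightHom R S S Q).lTensor N)) :
    IsMittagLeffler R N := by
  intro ι Q _ _
  rw [injective_iff_map_eq_zero]
  intro x hx
  obtain ⟨y, rfl⟩ := (AlgebraTensorModule.cancelBaseChange R S S N (∀ i, Q i)).surjective x
  have key : ∀ (y : N ⊗[S] (S ⊗[R] (∀ i, Q i))) (i : ι),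
      AlgebraTensorModule.cancelBaseChange R S S N (Q i)
          (piRightHom S S N (fun i => S ⊗[R] Q i) ((piRightHom R S S Q).lTensor N y) i)
        = piRightHom R R N Q (AlgebraTensorModule.cancelBaseChange R S S N (∀ i, Q i) y) i := by
    intro y i
    induction y using TensorProduct.induction_on with
    | zero => simp
    | add a b ha hb => simp only [map_add, Pi.add_apply, ha, hb]
    | tmul a w =>
      induction w using TensorProduct.induction_on with
      | zero => simp
      | add a b ha hb => simp only [tmul_add, map_add, Pi.add_apply, ha, hb]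
      | tmul s q => simp
  have h1 : (piRightHom R S S Q).lTensor N y = 0 :=
    (injective_iff_map_eq_zero _).1 (hN ι fun i => S ⊗[R] Q i) _ (funext fun i => by
      apply (AlgebraTensorModule.cancelBaseChange R S S N (Q i)).injective
      rw [key, hx]
      simp)
  rw [(injective_iff_map_eq_zero _).1 (hθ ι Q) y h1, map_zero]

theorem restrict_of_flat (hS : IsMittagLeffler R S) [Module.Flat S N] (hN : IsMittagLeffler S N) :
    IsMittagLeffler R N :=
  restrict_of_injective hN fun ι Q _ _ =>
    Module.Flat.lTensor_preserves_injective_linearMap (M := N) (piRightHom R S S Q) (hS ι Q)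

theorem restrict_of_finite [Module.Finite R S] [Algebra.FinitePresentation R S]
    (hN : IsMittagLeffler S N) : IsMittagLeffler R N := by
  have : Module.FinitePresentation R S := .of_finite_of_finitePresentation R S
  refine restrict_of_injective hN fun ι Q _ _ => ?_
  let e := LinearEquiv.ofBijective (piRightHom R S S Q) (ML.piRightHom_bijective_of_fp (M := S) Q)
  exact (e.lTensor N).injective

theorem of_restrict (hsurj : Function.Surjective (algebraMap R S)) (hN : IsMittagLeffler R N) :
    IsMittagLeffler S N := by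
  intro ι Q _ _
  let : ∀ i, Module R (Q i) := fun i => Module.compHom (Q i) (algebraMap R S)
  have : ∀ i, IsScalarTower R S (Q i) := fun i => IsScalarTower.of_algebraMap_smul fun r y => rfl
  rw [injective_iff_map_eq_zero]
  intro y hy
  obtain ⟨x, rfl⟩ := TensorProduct.mapOfCompatibleSMul_surjective S R R N (∀ i, Q i) y
  have hcompat : ∀ i, CompatibleSMul R S N (Q i) := fun i => ⟨fun s n q => by
    obtain ⟨r, rfl⟩ := hsurj s
    rw [algebraMap_smul, algebraMap_smul, smul_tmul]⟩
  have key : ∀ (x : N ⊗[R] (∀ i, Q i)) (i : ι),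
      mapOfCompatibleSMul S R R N (Q i) (piRightHom R R N Q x i)
        = piRightHom S S N Q (mapOfCompatibleSMul S R R N (∀ i, Q i) x) i := by
    intro x i
    induction x using TensorProduct.induction_on with
    | zero => simp
    | tmul a b => simp
    | add a b ha hb => simp only [map_add, Pi.add_apply, ha, hb]
  have : x = 0 := (injective_iff_map_eq_zero _).1 (hN ι Q) x (funext fun i => by
    have h0 := key x i
    rw [hy, Pi.zero_apply] at h0
    have := hcompat i
    have hinv : ∀ w : N ⊗[R] Q i, mapOfCompatibleSMul R S R N (Q i)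
        (mapOfCompatibleSMul S R R N (Q i) w) = w := by
      intro w
      induction w using TensorProduct.induction_on with
      | zero => simp
      | tmul a b => simp
      | add a b ha hb => simp only [map_add, ha, hb]
    rw [← hinv (piRightHom R R N Q x i), h0, map_zero]
    rfl)
  rw [this, map_zero]

end ChangeOfRings

end Groth.Agent.Lib.Pure.FlatML
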