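import Groth.Agent.Lib.Pure.FlatML
import Groth.Agent.Lib.Pure.Decomp

/-!
Descent of projectivity along faithfully flat ring maps.
-/

set_option autoImplicit false

universe u

open TensorProduct CAlg

namespace Groth.Agent.Lib.Pure.ProjDescent

variable {R : Type u} [CommRing R] (S : Type u) [CommRing S] [Algebra R S]
variable {M : Type u} [AddCommGroup M] [Module R M]

/-- The `S`-span of the image of a submodule in the base change. -/
def bc (U : Submodule R M) : Submodule S (S ⊗[R] M) :=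
  Submodule.span S (TensorProduct.mk R S M 1 '' (U : Set M))

theorem bc_le_iff (U : Submodule R M) (W : Submodule S (S ⊗[R] M)) :
    bc S U ≤ W ↔ U ≤ (W.restrictScalars R).comap (TensorProduct.mk R S M 1) := by
  rw [bc, Submodule.span_le, Set.image_subset_iff]
  rfl

theorem gc_bc : GaloisConnection (bc (R := R) (M := M) S)
    (fun W => (W.restrictScalars R).comap (TensorProduct.mk R S M 1)) := bc_le_iff S

theorem bc_span (s : Set M) :
    bc S (Submodule.span R s) = Submodule.span S (TensorProduct.mk R S M 1 '' s) :=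
  le_antisymm
    ((bc_le_iff S _ _).2 (Submodule.span_le.2 fun _ hx => Submodule.subset_span ⟨_, hx, rfl⟩))
    (Submodule.span_mono (Set.image_mono Submodule.subset_span))

theorem range_baseChange_subtype (U : Submodule R M) :
    LinearMap.range (U.subtype.baseChange S) = bc S U := by
  apply le_antisymm
  · rintro _ ⟨z, rfl⟩
    induction z using TensorProduct.induction_on with
    | zero => simp
    | add a b ha hb => rw [map_add]; exact add_mem ha hb
    | tmul s m =>
      have hm : (1 : S) ⊗ₜ[R] (m : M) ∈ bc S U := Submodule.subset_span ⟨m, m.2, rfl⟩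
      have := Submodule.smul_mem _ s hm
      simpa [TensorProduct.smul_tmul'] using this
  · rw [bc, Submodule.span_le]
    rintro _ ⟨m, hm, rfl⟩
    exact ⟨1 ⊗ₜ ⟨m, hm⟩, by simp⟩

open Kaplansky in
theorem exists_closure {I : Type u} (Q : I → Submodule S (S ⊗[R] M)) (hQ : (⨆ i, Q i) = ⊤)
    (hQc : ∀ i, ∃ t : Set (S ⊗[R] M), t.Countable ∧ Submodule.span S t = Q i)
    {A : Set M} (hA : A.Countable) {B : Set I} (hB : B.Countable) :
    ∃ (A' : Set M) (B' : Set I), A ⊆ A' ∧ B ⊆ B' ∧ A'.Countable ∧ B'.Countable ∧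
      Submodule.span S (TensorProduct.mk R S M 1 '' A') = part Q B' := by
  classical
  choose t ht htspan using hQc
  choose F hF using fun z : S ⊗[R] M => TensorProduct.exists_finset z
  choose G hG using fun m : M => mem_part_finset Q hQ (TensorProduct.mk R S M 1 m)
  let c : M ⊕ I → Set (M ⊕ I) :=
    Sum.elim (fun m => Sum.inr '' (↑(G m) : Set I))
      (fun i => Sum.inl '' (⋃ z ∈ t i, Prod.snd '' (↑(F z) : Set (S × M))))
  obtain ⟨T, hT0, hTc, hTcl⟩ := exists_countable_closed c (by
      rintro (m | i)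
      · exact (G m).finite_toSet.countable.image _
      · exact ((ht i).biUnion fun z _ => (F z).finite_toSet.countable.image _).image _)
    ((hA.image Sum.inl).union (hB.image Sum.inr))
  refine ⟨Sum.inl ⁻¹' T, Sum.inr ⁻¹' T, fun a ha => hT0 (Or.inl ⟨a, ha, rfl⟩),
    fun b hb => hT0 (Or.inr ⟨b, hb, rfl⟩), hTc.preimage Sum.inl_injective,
    hTc.preimage Sum.inr_injective, le_antisymm ?_ ?_⟩
  · rw [Submodule.span_le]
    rintro _ ⟨m, hm, rfl⟩
    exact part_mono Q (fun i hi => hTcl _ hm ⟨i, hi, rfl⟩) (hG m)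
  · refine iSup₂_le fun i hi => ?_
    rw [← htspan i, Submodule.span_le]
    intro z hz
    rw [SetLike.mem_coe, hF z]
    refine Submodule.sum_mem _ fun p hp => ?_
    have hp2 : Sum.inl p.2 ∈ T := hTcl _ hi ⟨p.2, Set.mem_biUnion hz ⟨p, hp, rfl⟩, rfl⟩
    have h1 : (1 : S) ⊗ₜ[R] p.2 ∈ Submodule.span S (TensorProduct.mk R S M 1 '' (Sum.inl ⁻¹' T)) :=
      Submodule.subset_span ⟨p.2, hp2, rfl⟩
    have := Submodule.smul_mem _ p.1 h1
    simpa [TensorProduct.smul_tmul'] using this

open Classical in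
/-- The piece between two stages of the devissage is projective. -/
theorem projective_quot [Module.Flat R S] [Module.Projective S (S ⊗[R] M)] {I : Type u}
    (Q : I → Submodule S (S ⊗[R] M)) (hQ : DirectSum.IsInternal Q) (U U' : Submodule R M)
    (hUU : U ≤ U') (J J' : Set I) (hJ : J ⊆ J') (hU : bc S U = Kaplansky.part Q J)
    (hU' : bc S U' = Kaplansky.part Q J') :
    Module.Projective S (S ⊗[R] (↥U' ⧸ U.comap U'.subtype)) := by
  let V₀ := U.comap U'.subtype
  obtain ⟨p, hp1, hp2, hp3⟩ := Kaplansky.exists_projector Q hQ (J' \ J)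
  obtain ⟨p', hp'1, -, hp'3⟩ := Kaplansky.exists_projector Q hQ J'
  have hinj : Function.Injective (U'.subtype.baseChange S) :=
    Module.Flat.lTensor_preserves_injective_linearMap (M := S) U'.subtype Subtype.val_injective
  let e := LinearEquiv.ofInjective (U'.subtype.baseChange S) hinj
  let α : S ⊗[R] ↥U' →ₗ[S] S ⊗[R] M := p ∘ₗ U'.subtype.baseChange S
  let q := V₀.mkQ.baseChange S
  have hq : Function.Surjective q := LinearMap.lTensor_surjective S V₀.mkQ_surjective
  have hker : LinearMap.ker q ≤ LinearMap.ker α := by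
    intro z hz
    obtain ⟨w, rfl⟩ := (lTensor_exact S (LinearMap.exact_subtype_mkQ V₀) V₀.mkQ_surjective z).1 hz
    have h1 : U'.subtype.baseChange S (V₀.subtype.baseChange S w) ∈ bc S U := by
      clear hz
      induction w using TensorProduct.induction_on with
      | zero => simp
      | add a b ha hb => rw [map_add, map_add]; exact add_mem ha hb
      | tmul s v =>
        have hv : ((v : ↥U') : M) ∈ U := v.2
        have hm : (1 : S) ⊗ₜ[R] ((v : ↥U') : M) ∈ bc S U := Submodule.subset_span ⟨_, hv, rfl⟩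
        have := Submodule.smul_mem _ s hm
        simpa [TensorProduct.smul_tmul'] using this
    rw [hU] at h1
    exact hp2 _ (Kaplansky.part_mono Q (fun i hi => fun h => h.2 hi) h1)
  let αbar : S ⊗[R] (↥U' ⧸ V₀) →ₗ[S] S ⊗[R] M :=
    (LinearMap.ker q).liftQ α hker ∘ₗ (q.quotKerEquivOfSurjective hq).symm.toLinearMap
  have hmem : ∀ x, p' x ∈ LinearMap.range (U'.subtype.baseChange S) := fun x => by
    rw [range_baseChange_subtype, hU']; exact hp'3 x
  let β : S ⊗[R] M →ₗ[S] S ⊗[R] (↥U' ⧸ V₀) := q ∘ₗ e.symm.toLinearMap ∘ₗ p'.codRestrict _ hmem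
  refine Module.Projective.of_split αbar β (LinearMap.ext fun y => ?_)
  obtain ⟨z, rfl⟩ := hq y
  have hαbar : αbar (q z) = α z := by
    have : (q.quotKerEquivOfSurjective hq).symm (q z) = Submodule.Quotient.mk z := by
      rw [LinearEquiv.symm_apply_eq]; rfl
    simp only [αbar, LinearMap.comp_apply, LinearEquiv.coe_coe, this]
    rfl
  rw [LinearMap.comp_apply, hαbar, LinearMap.id_apply]
  have hz : U'.subtype.baseChange S z ∈ Kaplansky.part Q J ⊔ Kaplansky.part Q (J' \ J) := by
    rw [← Kaplansky.part_union, Set.union_sdiff_cancel hJ, ← hU', ← range_baseChange_subtype]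
    exact LinearMap.mem_range_self _ z
  obtain ⟨a, ha, b, hb, hab⟩ := Submodule.mem_sup.1 hz
  have hαz : α z = b := by
    have hpa : p a = 0 := hp2 _ (Kaplansky.part_mono Q (fun i hi => fun h => h.2 hi) ha)
    simp only [α, LinearMap.comp_apply, ← hab, map_add, hpa, hp1 b hb, zero_add]
  have hbJ' : b ∈ Kaplansky.part Q J' := Kaplansky.part_mono Q Set.sdiff_subset hb
  obtain ⟨zb, hzb⟩ : b ∈ LinearMap.range (U'.subtype.baseChange S) := by
    rw [range_baseChange_subtype, hU']; exact hbJ'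
  have hβb : β b = q zb := by
    have : e.symm (p'.codRestrict _ hmem b) = zb := by
      rw [LinearEquiv.symm_apply_eq]
      exact Subtype.ext ((hp'1 b hbJ').trans hzb.symm)
    simp [β, this]
  rw [hαz, hβb]
  have hz0 : U'.subtype.baseChange S (z - zb) ∈ bc S U := by
    rw [map_sub, hzb, ← hab, add_sub_cancel_right, hU]; exact ha
  have hqz : q (z - zb) = 0 := by
    have hUU' : bc S U ≤ LinearMap.range
        (U'.subtype.baseChange S ∘ₗ V₀.subtype.baseChange S) := by
      rw [bc, Submodule.span_le]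
      rintro _ ⟨m, hm, rfl⟩
      exact ⟨1 ⊗ₜ ⟨⟨m, hUU hm⟩, hm⟩, by simp⟩
    obtain ⟨w, hw⟩ := hUU' hz0
    rw [← hinj hw]
    exact (lTensor_exact S (LinearMap.exact_subtype_mkQ V₀) V₀.mkQ_surjective _).2 ⟨w, rfl⟩
  rwa [map_sub, sub_eq_zero, eq_comm] at hqz

end Groth.Agent.Lib.Pure.ProjDescent

namespace Groth.Agent.Lib.Pure.ProjDescent

open TensorProduct CAlg Kaplansky

variable {R : Type u} [CommRing R] (S : Type u) [CommRing S] [Algebra R S]
variable {M : Type u} [AddCommGroup M] [Module R M]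

theorem eq_top_of_bc [Module.FaithfullyFlat R S] (U : Submodule R M) (h : bc S U = ⊤) : U = ⊤ := by
  have h1 : Function.Surjective (U.subtype.baseChange S) := by
    rw [← LinearMap.range_eq_top, range_baseChange_subtype, h]
  have h2 := (Module.FaithfullyFlat.lTensor_surjective_iff_surjective R S U.subtype).1 h1
  exact eq_top_iff.2 fun x _ => by
    obtain ⟨y, rfl⟩ := h2 x
    exact y.2

/-- A new countably generated projective piece. -/
theorem exists_piece [Module.FaithfullyFlat R S] [Module.Projective S (S ⊗[R] M)] {I : Type u}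
    [DecidableEq I] (Q : I → Submodule S (S ⊗[R] M)) (hQ : DirectSum.IsInternal Q)
    (U : Submodule R M) {A : Set M} (hA : A.Countable) (J J' : Set I) (hJ : J ⊆ J')
    (hU : bc S U = part Q J) (hU' : bc S (U ⊔ Submodule.span R A) = part Q J') :
    ∃ L : Submodule R M, Disjoint L U ∧ L ⊔ U = U ⊔ Submodule.span R A ∧
      IsCountablyGenerated R L ∧ Module.Projective R L := by
  let U' : Submodule R M := U ⊔ Submodule.span R A
  let V₀ := U.comap U'.subtype
  have hQ' : DirectSum.IsInternal Q := hQ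
  have : Module.Projective S (S ⊗[R] (↥U' ⧸ V₀)) := by
    classical
    exact projective_quot S Q (by convert hQ') U U' le_sup_left J J' hJ hU hU'
  have hflat : Module.Flat R (↥U' ⧸ V₀) := Module.Flat.of_flat_tensorProduct R (↥U' ⧸ V₀) S
  have hml : IsMittagLeffler R (↥U' ⧸ V₀) := FlatML.descent (S := S) Decomp.ml_of_projective
  let A' : Set ↥U' := Subtype.val ⁻¹' A
  have hAU : A ⊆ U' := fun a ha => Submodule.mem_sup_right (Submodule.subset_span ha)
  have hspanA : Submodule.span R A' = (Submodule.span R A).comap U'.subtype := by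
    apply Submodule.map_injective_of_injective U'.subtype_injective
    rw [Submodule.map_span, Submodule.map_comap_subtype, inf_eq_right.2 le_sup_right]
    congr 1
    exact Set.image_preimage_eq_of_subset fun a ha => ⟨⟨a, hAU ha⟩, rfl⟩
  have hdec : ∀ z : ↥U', ∃ w ∈ Submodule.span R A', V₀.mkQ w = V₀.mkQ z := by
    intro z
    obtain ⟨x, hx, y, hy, hxy⟩ := Submodule.mem_sup.1 z.2
    refine ⟨⟨y, Submodule.mem_sup_right hy⟩, by rw [hspanA]; exact hy, (Submodule.Quotient.eq V₀).2 ?_⟩
    change y - (z : M) ∈ U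
    rw [← hxy, sub_add_cancel_right]
    exact neg_mem hx
  have hc : IsCountablyGenerated R (↥U' ⧸ V₀) :=
    ⟨V₀.mkQ '' A', (hA.preimage Subtype.val_injective).image _, eq_top_iff.2 fun v _ => by
      obtain ⟨z, rfl⟩ := V₀.mkQ_surjective v
      obtain ⟨w, hw, hwz⟩ := hdec z
      rw [← hwz, ← Submodule.map_span]
      exact ⟨w, hw, rfl⟩⟩
  have hproj : Module.Projective R (↥U' ⧸ V₀) := Chain.projective_of_flat hml hc
  obtain ⟨s, hs⟩ := Module.projective_lifting_property V₀.mkQ LinearMap.id V₀.mkQ_surjective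
  let σ := U'.subtype ∘ₗ s
  have hs' : ∀ v, V₀.mkQ (s v) = v := LinearMap.congr_fun hs
  have hinj : Function.Injective σ := fun a b h => by
    rw [← hs' a, ← hs' b, Subtype.ext h]
  refine ⟨LinearMap.range σ, ?_, ?_, ?_, ?_⟩
  · rw [Submodule.disjoint_def]
    rintro _ ⟨v, rfl⟩ hv
    have : V₀.mkQ (s v) = 0 := (Submodule.Quotient.mk_eq_zero V₀).2 hv
    rw [hs'] at this
    simp [this]
  · refine le_antisymm (sup_le ?_ le_sup_left) fun x hx => ?_
    · rintro _ ⟨v, rfl⟩; exact (s v).2
    · refine Submodule.mem_sup.2 ⟨σ (V₀.mkQ ⟨x, hx⟩), ⟨_, rfl⟩, x - σ (V₀.mkQ ⟨x, hx⟩), ?_,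
        add_sub_cancel _ _⟩
      exact (Submodule.Quotient.eq V₀).1 (hs' (V₀.mkQ ⟨x, hx⟩)).symm
  · obtain ⟨t, ht, htspan⟩ := hc
    exact (countable_span_iff _).2 ⟨σ '' t, ht.image _,
      by rw [← Submodule.map_span, htspan, Submodule.map_top]⟩
  · exact Module.Projective.of_equiv (LinearEquiv.ofInjective σ hinj)

theorem projective_of_faithfullyFlat [Module.FaithfullyFlat R S]
    [Module.Projective S (S ⊗[R] M)] : Module.Projective R M := by
  classical
  obtain ⟨I, Q, hQ, hQc⟩ := Decomp.exists_decomp (R := S) (M := S ⊗[R] M)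
  let good : Set I × Set (Submodule R M) → Prop := fun a =>
    bc S (sSup a.2) = part Q a.1 ∧ sSupIndep a.2 ∧
      ∀ L ∈ a.2, IsCountablyGenerated R L ∧ Module.Projective R L
  have hbot : bc S (⊥ : Submodule R M) = ⊥ := (gc_bc S).l_bot
  obtain ⟨a, -, hmax⟩ := zorn_le_nonempty₀ {a | good a} (fun C hC hchain y hy => by
      refine ⟨(⋃ a ∈ C, a.1, ⋃ a ∈ C, a.2), ⟨?_, ?_, ?_⟩, fun z hz =>
        ⟨Set.subset_biUnion_of_mem (u := Prod.fst) hz, Set.subset_biUnion_of_mem (u := Prod.snd) hz⟩⟩
      · simp only [sSup_iUnion, (gc_bc S).l_iSup]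
        refine le_antisymm (iSup₂_le fun b hb => ?_) (iSup₂_le fun i hi => ?_)
        · rw [(hC hb).1]; exact part_mono Q (Set.subset_biUnion_of_mem (u := Prod.fst) hb)
        · obtain ⟨b, hb, hib⟩ := Set.mem_iUnion₂.1 hi
          exact le_iSup₂_of_le b hb ((hC hb).1.symm ▸ le_part Q hib)
      · simp only
        rw [show (⋃ a ∈ C, a.2) = ⋃₀ (Prod.snd '' C) by simp [Set.sUnion_image]]
        refine sSupIndep_sUnion ?_ ?_
        · rintro _ ⟨x, hx, rfl⟩ _ ⟨z, hz, rfl⟩ hne
          rcases hchain hx hz (fun h => hne (h ▸ rfl)) with h | h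
          · exact Or.inl h.2
          · exact Or.inr h.2
        · rintro _ ⟨x, hx, rfl⟩; exact (hC hx).2.1
      · simp only [Set.mem_iUnion]
        rintro L ⟨b, hb, hL⟩
        exact (hC hb).2.2 L hL)
    (∅, ∅) ⟨by simp [part, hbot], by simp, by simp⟩
  obtain ⟨hbc, hind, hL⟩ := hmax.1
  by_cases hJ : a.1 = Set.univ
  · have htop : sSup a.2 = ⊤ := eq_top_of_bc S _ (by
      rw [hbc, hJ]; simp [part, hQ.submodule_iSup_eq_top])
    have : ∀ L : ↥a.2, Module.Projective R L.1 := fun L => (hL L.1 L.2).2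
    have hint := (DirectSum.isInternal_submodule_iff_iSupIndep_and_iSup_eq_top
      (fun L : ↥a.2 => L.1)).2 ⟨(sSupIndep_iff a.2).1 hind, by rw [← sSup_eq_iSup', htop]⟩
    exact Module.Projective.of_equiv (LinearEquiv.ofBijective (DirectSum.coeLinearMap _) hint)
  exfalso
  obtain ⟨i₀, hi₀⟩ := (Set.ne_univ_iff_exists_notMem _).1 hJ
  obtain ⟨A, B, -, hB, hAc, -, hAB⟩ := exists_closure S Q hQ.submodule_iSup_eq_top
    (fun i => (countable_span_iff _).1 (hQc i)) (A := ∅) Set.countable_empty
    (B := {i₀}) (Set.countable_singleton i₀)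
  have hU' : bc S (sSup a.2 ⊔ Submodule.span R A) = part Q (a.1 ∪ B) := by
    rw [GaloisConnection.l_sup (u := fun W : Submodule S (S ⊗[R] M) => (W.restrictScalars R).comap (TensorProduct.mk R S M 1)) (gc_bc S), hbc, bc_span, hAB, part_union]
  obtain ⟨L, hdis, hsup, hLc, hLp⟩ :=
    exists_piece S Q hQ (sSup a.2) hAc a.1 (a.1 ∪ B) Set.subset_union_left hbc hU'
  have hnew : good (a.1 ∪ B, insert L a.2) := by
    refine ⟨?_, sSupIndep_insert hind hdis, ?_⟩
    · simp only [sSup_insert, hsup, hU']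
    · rintro L' (rfl | h')
      · exact ⟨hLc, hLp⟩
      · exact hL L' h'
  exact hi₀ ((hmax.2 hnew ⟨Set.subset_union_left, Set.subset_insert _ _⟩).1 (Or.inr (hB rfl)))

end Groth.Agent.Lib.Pure.ProjDescent
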