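import Groth.Agent.Lib.Pure.ML
import Groth.Agent.S6359
import Mathlib.RingTheory.Flat.EquationalCriterion
import Mathlib.Algebra.Module.Projective

/-!
Countably generated Mittag-Leffler modules: approximating sequences, projectivity in the flat case.
-/

set_option autoImplicit false

universe u

open TensorProduct CAlgX CAlg

namespace Groth.Agent.Lib.Pure.Chain

variable {R : Type u} [CommRing R] {M : Type u} [AddCommGroup M] [Module R M]

/-- A map from a finitely presented module. -/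
structure Approx (R : Type u) [CommRing R] (M : Type u) [AddCommGroup M] [Module R M] where
  car : Type u
  [grp : AddCommGroup car]
  [mod : Module R car]
  [fp : Module.FinitePresentation R car]
  map : car →ₗ[R] M

attribute [instance] Approx.grp Approx.mod Approx.fp

theorem exists_step (hM : IsMittagLeffler R M) (a : Approx R M) (m : M) :
    ∃ (b : Approx R M) (t : a.car →ₗ[R] b.car), a.map = b.map ∘ₗ t ∧
      m ∈ LinearMap.range b.map ∧ ML.Dominates a.map t := by
  obtain ⟨L, i₁, i₂, i₃, g, h, hfac, hd⟩ :=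
    ML.exists_dominating hM (a.map.coprod (LinearMap.toSpanSingleton R M m))
  refine ⟨⟨L, h⟩, g ∘ₗ LinearMap.inl R a.car R, ?_, ?_, ?_⟩
  · rw [← LinearMap.comp_assoc]
    change a.map = (h ∘ₗ g) ∘ₗ LinearMap.inl R a.car R
    rw [← hfac, LinearMap.coprod_inl]
  · refine ⟨g (0, 1), ?_⟩
    change (h ∘ₗ g) (0, 1) = m
    rw [← hfac]
    simp
  · intro Q _ _ x hx
    rw [LinearMap.mem_ker, LinearMap.rTensor_comp_apply]
    refine hd Q ?_
    rw [LinearMap.mem_ker, ← LinearMap.rTensor_comp_apply, LinearMap.coprod_inl]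
    exact hx

theorem exists_back {X Y Z : Approx R M} (t : X.car →ₗ[R] Y.car) (t' : Y.car →ₗ[R] Z.car)
    (h : X.map = Y.map ∘ₗ t) (h' : Y.map = Z.map ∘ₗ t') (hd : ML.Dominates X.map t) :
    ∃ s : Z.car →ₗ[R] Y.car, t = s ∘ₗ (t' ∘ₗ t) := by
  have : Module.FinitePresentation R (Z.car ⧸ LinearMap.range (t' ∘ₗ t)) :=
    Module.finitePresentation_of_surjective _ (Submodule.mkQ_surjective _)
      (by rw [Submodule.ker_mkQ]; exact Submodule.fg_range _)
  refine (Groth.Agent.S6359.result R (t' ∘ₗ t) t).1 fun Q _ _ => ?_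
  refine le_trans ?_ (hd Q)
  rw [h, h', LinearMap.comp_assoc, LinearMap.rTensor_comp Q Z.map (t' ∘ₗ t)]
  exact LinearMap.ker_le_ker_comp _ _

theorem exists_chain (hM : IsMittagLeffler R M) (hc : IsCountablyGenerated R M) (a₀ : Approx R M) :
    ∃ (a : ℕ → Approx R M) (t : ∀ k, (a k).car →ₗ[R] (a (k + 1)).car)
      (s : ∀ k, (a (k + 2)).car →ₗ[R] (a (k + 1)).car), a 0 = a₀ ∧
      (∀ k, (a k).map = (a (k + 1)).map ∘ₗ t k) ∧
      (∀ k, ∀ x, (a k).map x = 0 → t k x = 0) ∧
      (∀ k, t k = s k ∘ₗ (t (k + 1) ∘ₗ t k)) ∧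
      (∀ m : M, ∃ k x, (a k).map x = m) := by
  classical
  obtain ⟨S, hS, hspan⟩ := hc
  obtain ⟨e, he⟩ : ∃ e : ℕ → M, S ⊆ Set.range e := by
    obtain ⟨e, he⟩ := Set.Countable.exists_eq_range (hS.insert 0) (Set.insert_nonempty 0 S)
    exact ⟨e, he ▸ Set.subset_insert 0 S⟩
  choose b tb hb₁ hb₂ hb₃ using fun (a : Approx R M) (m : M) => exists_step hM a m
  let a : ℕ → Approx R M := fun k =>
    Nat.rec (motive := fun _ => Approx R M) a₀ (fun k ak => b ak (e k)) k
  let t : ∀ k, (a k).car →ₗ[R] (a (k + 1)).car := fun k => tb (a k) (e k)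
  have ht : ∀ k, (a k).map = (a (k + 1)).map ∘ₗ t k := fun k => hb₁ (a k) (e k)
  choose s hs using fun k => exists_back (X := a k) (Y := a (k + 1)) (Z := a (k + 2)) (t k) (t (k + 1))
    (ht k) (ht (k + 1)) (hb₃ (a k) (e k))
  refine ⟨a, t, s, rfl, ht, fun k x hx => ?_, hs, fun m => ?_⟩
  · have h1 := hb₃ (a k) (e k) R (x := x ⊗ₜ 1) (by simp [hx])
    simpa using congrArg (TensorProduct.rid R _) (LinearMap.mem_ker.1 h1)
  · have hmono : Monotone fun k => LinearMap.range (a k).map :=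
      monotone_nat_of_le_succ fun k => by
        rw [ht k]
        exact LinearMap.range_comp_le_range _ _
    have : m ∈ ⨆ k, LinearMap.range (a k).map := by
      have hle : Submodule.span R S ≤ ⨆ k, LinearMap.range (a k).map := by
        rw [Submodule.span_le]
        intro x hx
        obtain ⟨k, rfl⟩ := he hx
        exact Submodule.mem_iSup_of_mem (k + 1) (hb₂ (a k) (e k))
      exact hle (hspan ▸ Submodule.mem_top)
    exact (Submodule.mem_iSup_of_directed _ hmono.directed_le).1 this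

/-- Compatible maps out of the terms descend to the colimit. -/
theorem exists_desc (a : ℕ → Approx R M) (t : ∀ k, (a k).car →ₗ[R] (a (k + 1)).car)
    (ht : ∀ k, (a k).map = (a (k + 1)).map ∘ₗ t k)
    (hker : ∀ k, ∀ x, (a k).map x = 0 → t k x = 0) (hsurj : ∀ m : M, ∃ k x, (a k).map x = m)
    {Y : Type u} [AddCommGroup Y] [Module R Y] (ψ : ∀ k, (a k).car →ₗ[R] Y)
    (hψ : ∀ k, ψ (k + 1) ∘ₗ t k = ψ k) :
    ∃ σ : M →ₗ[R] Y, ∀ k, σ ∘ₗ (a k).map = ψ k := by
  have up : ∀ k n, k ≤ n → ∀ x, ∃ x', (a n).map x' = (a k).map x ∧ ψ n x' = ψ k x := by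
    intro k n hkn
    induction n, hkn using Nat.le_induction with
    | base => exact fun x => ⟨x, rfl, rfl⟩
    | succ n _ ih =>
      intro x
      obtain ⟨x', h1, h2⟩ := ih x
      exact ⟨t n x', by rw [← h1, ht n]; rfl, by rw [← h2, ← hψ n]; rfl⟩
  have wd : ∀ k l x y, (a k).map x = (a l).map y → ψ k x = ψ l y := by
    intro k l x y h
    obtain ⟨x', hx1, hx2⟩ := up k (max k l) (le_max_left _ _) x
    obtain ⟨y', hy1, hy2⟩ := up l (max k l) (le_max_right _ _) y
    have h0 := hker _ (x' - y') (by rw [map_sub, hx1, hy1, h, sub_self])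
    have := congrArg (ψ (max k l + 1)) h0
    rw [map_zero, ← LinearMap.comp_apply, hψ, map_sub, hx2, hy2, sub_eq_zero] at this
    exact this
  choose k x hx using hsurj
  let σ : M →ₗ[R] Y :=
    { toFun := fun m => ψ (k m) (x m)
      map_add' := fun m m' => by
        obtain ⟨z, hz1, hz2⟩ := up (k m) (max (k m) (k m')) (le_max_left _ _) (x m)
        obtain ⟨z', hz1', hz2'⟩ := up (k m') (max (k m) (k m')) (le_max_right _ _) (x m')
        rw [← hz2, ← hz2', ← map_add]
        exact wd _ _ _ _ (by rw [map_add, hz1, hz1', hx, hx, hx])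
      map_smul' := fun c m => by
        rw [RingHom.id_apply, ← map_smul]
        exact wd _ _ _ _ (by rw [map_smul, hx, hx]) }
  exact ⟨σ, fun n => LinearMap.ext fun y => wd _ _ _ _ (hx _)⟩

/-- An endomorphism fixing the image of a finitely generated module and factoring through a finitely
presented one. -/
theorem exists_factor_endo (hM : IsMittagLeffler R M) (hc : IsCountablyGenerated R M) {n : ℕ}
    (f : (Fin n → R) →ₗ[R] M) :
    ∃ (Q : Approx R M) (σ : M →ₗ[R] Q.car), (Q.map ∘ₗ σ) ∘ₗ f = f := by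
  obtain ⟨a, t, s, h0, ht, hker, hs, hsurj⟩ := exists_chain hM hc ⟨Fin n → R, f⟩
  let φ : ∀ k, (a (k + 1)).car →ₗ[R] (a 1).car := fun k =>
    Nat.rec (motive := fun k => (a (k + 1)).car →ₗ[R] (a 1).car) LinearMap.id
      (fun k φk => φk ∘ₗ s k) k
  obtain ⟨σ, hσ⟩ := exists_desc a t ht hker hsurj (fun k => φ k ∘ₗ t k) fun k => by
    change ((φ k ∘ₗ s k) ∘ₗ t (k + 1)) ∘ₗ t k = φ k ∘ₗ t k
    rw [LinearMap.comp_assoc, LinearMap.comp_assoc, ← hs k]
  refine ⟨a 1, σ, ?_⟩
  have key : ((a 1).map ∘ₗ σ) ∘ₗ (a 0).map = (a 0).map := by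
    rw [LinearMap.comp_assoc, hσ 0]
    exact (ht 0).symm
  obtain ⟨a', ha'⟩ : ∃ a' : Approx R M, a 0 = a' ∧ a' = ⟨Fin n → R, f⟩ := ⟨_, rfl, h0⟩
  rw [ha'.1, ha'.2] at key
  exact key

/-- Countably generated flat Mittag-Leffler modules are projective. -/
theorem projective_of_flat (hM : IsMittagLeffler R M) (hc : IsCountablyGenerated R M)
    [Module.Flat R M] : Module.Projective R M := by
  classical
  obtain ⟨a, t, s, -, ht, hker, hs, hsurj⟩ := exists_chain hM hc ⟨Fin 0 → R, 0⟩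
  choose n v e hv using fun k => Module.Flat.exists_factorization_of_finitePresentation (a (k + 1)).map
  let ι : ∀ k, (a (k + 1)).car →ₗ[R] ((Σ k : ℕ, Fin (n k)) →₀ R) := fun k =>
    (Finsupp.lmapDomain R R (fun i : Fin (n k) => (⟨k, i⟩ : Σ k : ℕ, Fin (n k)))) ∘ₗ v k
  let π : ((Σ k : ℕ, Fin (n k)) →₀ R) →ₗ[R] M := Finsupp.linearCombination R fun p => e p.1 (Finsupp.single p.2 1)
  have hπι : ∀ k, π ∘ₗ ι k = (a (k + 1)).map := fun k => by
    rw [hv k, ← LinearMap.comp_assoc]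
    congr 1
    ext i
    simp [π]
  let φ : ∀ k, (a (k + 1)).car →ₗ[R] ((Σ k : ℕ, Fin (n k)) →₀ R) := fun k =>
    Nat.rec (motive := fun k => (a (k + 1)).car →ₗ[R] ((Σ k : ℕ, Fin (n k)) →₀ R)) (ι 0)
      (fun k φk => ι (k + 1) + (φk - ι (k + 1) ∘ₗ t (k + 1)) ∘ₗ s k) k
  have hφ : ∀ k, π ∘ₗ φ k = (a (k + 1)).map := by
    intro k
    induction k with
    | zero => exact hπι 0
    | succ k ih =>
      change π ∘ₗ (ι (k + 1) + (φ k - ι (k + 1) ∘ₗ t (k + 1)) ∘ₗ s k) = _
      refine LinearMap.ext fun z => ?_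
      have h1 : ∀ w, π (ι (k + 1) w) = (a (k + 2)).map w := fun w => LinearMap.congr_fun (hπι (k + 1)) w
      have h2 : ∀ w, π (φ k w) = (a (k + 1)).map w := fun w => LinearMap.congr_fun ih w
      have h3 : ∀ w, (a (k + 2)).map (t (k + 1) w) = (a (k + 1)).map w := fun w =>
        (LinearMap.congr_fun (ht (k + 1)) w).symm
      simp only [LinearMap.comp_apply, LinearMap.add_apply, LinearMap.sub_apply, map_add, map_sub,
        h1, h2, h3, sub_self, add_zero]
  obtain ⟨σ, hσ⟩ := exists_desc a t ht hker hsurj (fun k => φ k ∘ₗ t k) fun k => by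
    change ((ι (k + 1) + (φ k - ι (k + 1) ∘ₗ t (k + 1)) ∘ₗ s k) ∘ₗ t (k + 1)) ∘ₗ t k = φ k ∘ₗ t k
    simp only [LinearMap.add_comp, LinearMap.sub_comp, LinearMap.comp_assoc, ← hs k]
    abel
  refine Module.Projective.of_split σ π (LinearMap.ext fun m => ?_)
  obtain ⟨k, x, rfl⟩ := hsurj m
  rw [LinearMap.comp_apply, ← LinearMap.comp_apply σ, hσ k, ← LinearMap.comp_apply,
    ← LinearMap.comp_assoc, hφ k, ← ht k, LinearMap.id_apply]

end Groth.Agent.Lib.Pure.Chain
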