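import Groth.Agent.Lib.Pure.ML
import Groth.Agent.S6359
import Mathlib.LinearAlgebra.TensorProduct.DirectLimit
import Mathlib.Algebra.Colimit.Module

/-!
Mittag-Leffler colimits of systems of finitely presented modules.
-/

set_option autoImplicit false

universe u

open TensorProduct CAlg

namespace Groth.Agent.Lib.Pure.ColimML

variable {R : Type u} [CommRing R] {ι : Type u} [Preorder ι] [IsDirected ι (· ≤ ·)] [Nonempty ι]
  [DecidableEq ι] {G : ι → Type u} [∀ i, AddCommGroup (G i)] [∀ i, Module R (G i)]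
  {f : ∀ i j, i ≤ j → G i →ₗ[R] G j} [DirectedSystem G fun i j h => f i j h]

local notation "of'" => Module.DirectLimit.of R ι G f

theorem exists_eq_at {P : Type u} [AddCommGroup P] [Module R P] [Module.Finite R P] {i : ι}
    (φ : P →ₗ[R] G i) (h : of' i ∘ₗ φ = 0) :
    ∃ (j : ι) (hij : i ≤ j), f i j hij ∘ₗ φ = 0 := by
  classical
  obtain ⟨s, hs⟩ := (‹Module.Finite R P›).1
  choose j hij hj using fun p : P => Module.DirectLimit.of.zero_exact (LinearMap.congr_fun h p)
  obtain ⟨k, hk⟩ := Finset.exists_le (insert i (s.image j))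
  have hik : i ≤ k := hk i (Finset.mem_insert_self _ _)
  refine ⟨k, hik, LinearMap.ext_on hs fun p hp => ?_⟩
  have hjk : j p ≤ k := hk _ (Finset.mem_insert_of_mem (Finset.mem_image_of_mem j hp))
  change f i k hik (φ p) = 0
  rw [← DirectedSystem.map_map (f := fun i j h => f i j h) (hij p) hjk, hj p, map_zero]

theorem exists_lift {P : Type u} [AddCommGroup P] [Module R P] [Module.FinitePresentation R P]
    (φ : P →ₗ[R] Module.DirectLimit G f) : ∃ (i : ι) (ψ : P →ₗ[R] G i), of' i ∘ₗ ψ = φ := by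
  classical
  obtain ⟨n, K, e, hK⟩ := Module.FinitePresentation.exists_fin R P
  let φ' := φ ∘ₗ e.symm.toLinearMap ∘ₗ K.mkQ
  choose a x hx using fun k : Fin n => Module.DirectLimit.exists_of (φ' (Pi.single k 1))
  obtain ⟨i₀, hi₀⟩ := Finset.exists_le (Finset.univ.image a)
  have ha : ∀ k, a k ≤ i₀ := fun k => hi₀ _ (Finset.mem_image_of_mem a (Finset.mem_univ k))
  let ψ₀ : (Fin n → R) →ₗ[R] G i₀ := Fintype.linearCombination R fun k => f (a k) i₀ (ha k) (x k)
  have hψ₀ : of' i₀ ∘ₗ ψ₀ = φ' := by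
    refine LinearMap.pi_ext' fun k => LinearMap.ext_ring ?_
    simp [ψ₀, hx]
  have : Module.Finite R K := Module.Finite.of_fg hK
  obtain ⟨j, hj, hj0⟩ := exists_eq_at (f := f) (ψ₀ ∘ₗ K.subtype) (by
    rw [← LinearMap.comp_assoc, hψ₀]
    ext v
    simp [φ', (Submodule.Quotient.mk_eq_zero K).2 v.2])
  refine ⟨j, K.liftQ (f i₀ j hj ∘ₗ ψ₀) (fun v hv => ?_) ∘ₗ e.toLinearMap, ?_⟩
  · exact LinearMap.congr_fun hj0 ⟨v, hv⟩
  · refine LinearMap.ext fun p => ?_
    obtain ⟨p, rfl⟩ := e.symm.surjective p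
    obtain ⟨p, rfl⟩ := K.mkQ_surjective p
    have := LinearMap.congr_fun hψ₀ p
    rw [LinearMap.comp_apply, LinearMap.comp_apply, LinearEquiv.coe_coe, e.apply_symm_apply,
      Submodule.mkQ_apply]
    change of' j (f i₀ j hj (ψ₀ p)) = _
    rw [Module.DirectLimit.of_f]
    exact this

theorem exists_eq_at₂ {P : Type u} [AddCommGroup P] [Module R P] [Module.Finite R P] {i j : ι}
    (φ : P →ₗ[R] G i) (ψ : P →ₗ[R] G j) (h : of' i ∘ₗ φ = of' j ∘ₗ ψ) :
    ∃ (k : ι) (hik : i ≤ k) (hjk : j ≤ k), f i k hik ∘ₗ φ = f j k hjk ∘ₗ ψ := by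
  obtain ⟨l, hil, hjl⟩ := exists_ge_ge i j
  obtain ⟨k, hlk, hk⟩ := exists_eq_at (f := f) (f i l hil ∘ₗ φ - f j l hjl ∘ₗ ψ) (by
    ext p
    simpa [sub_eq_zero] using LinearMap.congr_fun h p)
  refine ⟨k, hil.trans hlk, hjl.trans hlk, LinearMap.ext fun p => ?_⟩
  have := LinearMap.congr_fun hk p
  simp only [LinearMap.comp_apply, LinearMap.sub_apply, map_sub, LinearMap.zero_apply,
    sub_eq_zero] at this
  change f i k _ (φ p) = f j k _ (ψ p)
  rw [← DirectedSystem.map_map (f := fun i j h => f i j h) hil hlk,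
    ← DirectedSystem.map_map (f := fun i j h => f i j h) hjl hlk]
  exact this

theorem rTensor_zero_exact {i : ι} (Q : Type u) [AddCommGroup Q] [Module R Q] (x : G i ⊗[R] Q)
    (hx : (of' i).rTensor Q x = 0) : ∃ (j : ι) (hij : i ≤ j), (f i j hij).rTensor Q x = 0 := by
  have key : TensorProduct.directLimitLeft f Q ((of' i).rTensor Q x) =
      Module.DirectLimit.of R ι (fun i => G i ⊗[R] Q) (fun i j h => (f i j h).rTensor Q) i x := by
    clear hx
    induction x using TensorProduct.induction_on with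
    | zero => simp
    | tmul a b => simp
    | add a b ha hb => simp only [map_add, ha, hb]
  rw [hx, map_zero] at key
  exact Module.DirectLimit.of.zero_exact key.symm

variable [∀ i, Module.FinitePresentation R (G i)]

theorem exists_stationary (hM : IsMittagLeffler R (Module.DirectLimit G f)) (i : ι) :
    ∃ (j : ι) (hij : i ≤ j), ∀ (k : ι) (hik : i ≤ k),
      ∃ h : G k →ₗ[R] G j, f i j hij = h ∘ₗ f i k hik := by
  obtain ⟨L, i₁, i₂, i₃, g, h, hfac, hd⟩ := ML.exists_dominating hM (of' i)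
  obtain ⟨j₀, h₀, hh₀⟩ := exists_lift h
  obtain ⟨j, hj₀, hij, heq⟩ := exists_eq_at₂ (h₀ ∘ₗ g) (LinearMap.id : G i →ₗ[R] G i) (by
    rw [← LinearMap.comp_assoc, hh₀, ← hfac, LinearMap.comp_id])
  refine ⟨j, hij, fun k hik => ?_⟩
  have : Module.FinitePresentation R (G k ⧸ LinearMap.range (f i k hik)) :=
    Module.finitePresentation_of_surjective _ (Submodule.mkQ_surjective _)
      (by rw [Submodule.ker_mkQ]; exact Submodule.fg_range _)
  refine (Groth.Agent.S6359.result R (f i k hik) (f i j hij)).1 fun Q _ _ => ?_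
  have h1 : of' i = of' k ∘ₗ f i k hik := by ext y; simp
  have h2 : f i j hij = (f j₀ j hj₀ ∘ₗ h₀) ∘ₗ g := by
    rw [LinearMap.comp_assoc, heq, LinearMap.comp_id]
  refine le_trans ?_ ((hd Q).trans ?_)
  · rw [h1, LinearMap.rTensor_comp]
    exact LinearMap.ker_le_ker_comp _ _
  · rw [h2, LinearMap.rTensor_comp]
    exact LinearMap.ker_le_ker_comp _ _

theorem isMittagLeffler_of_stationary
    (h : ∀ i, ∃ (j : ι) (hij : i ≤ j), ∀ (k : ι) (hik : i ≤ k),
      ∃ h : G k →ₗ[R] G j, f i j hij = h ∘ₗ f i k hik) :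
    IsMittagLeffler R (Module.DirectLimit G f) := by
  refine ML.of_dominating fun n φ => ?_
  obtain ⟨i, ψ, hψ⟩ := exists_lift φ
  obtain ⟨j, hij, hj⟩ := h i
  refine ⟨G j, inferInstance, inferInstance, inferInstance, f i j hij ∘ₗ ψ, fun Q _ _ =>
    le_antisymm (fun x hx => ?_) ?_⟩
  · rw [← hψ, LinearMap.mem_ker, LinearMap.rTensor_comp_apply] at hx
    obtain ⟨k, hik, hk⟩ := rTensor_zero_exact Q _ hx
    obtain ⟨t, ht⟩ := hj k hik
    rw [LinearMap.mem_ker, LinearMap.rTensor_comp_apply, ht, LinearMap.rTensor_comp_apply, hk,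
      map_zero]
  · have : φ = of' j ∘ₗ (f i j hij ∘ₗ ψ) := by rw [← hψ]; ext y; simp
    rw [this, LinearMap.rTensor_comp Q (of' j)]
    exact LinearMap.ker_le_ker_comp _ _

end Groth.Agent.Lib.Pure.ColimML
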