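import Groth.Agent.Lib.Pure.UI
import Mathlib.Algebra.Category.ModuleCat.Monoidal.Basic
import Mathlib.Algebra.Category.ModuleCat.EpiMono
import Mathlib.Algebra.Category.ModuleCat.Abelian
import Mathlib.Algebra.Homology.Single
import Mathlib.Algebra.Homology.QuasiIso
import Mathlib.Algebra.Homology.Homotopy
import Mathlib.Algebra.Homology.ShortComplex.ModuleCat
import Mathlib.Algebra.Homology.ShortComplex.Exact
import Mathlib.CategoryTheory.Monoidal.Preadditive

/-!
Universally exact resolutions of modules: criteria in terms of universally exact pairs, and the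
lifting/extension properties against pure projective/injective modules.
-/

set_option autoImplicit false

universe u

open CategoryTheory Limits TensorProduct

namespace Groth.Agent.Lib.Pure.Res

section Linear

variable {R : Type u} [CommRing R]
variable {A B C D : Type u} [AddCommGroup A] [Module R A] [AddCommGroup B] [Module R B]
  [AddCommGroup C] [Module R C] [AddCommGroup D] [Module R D]

/-- The pair `A → B → C` stays exact after tensoring with any module. -/
def UExact (f : A →ₗ[R] B) (g : B →ₗ[R] C) : Prop :=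
  ∀ (T : Type u) [AddCommGroup T] [Module R T], Function.Exact (f.rTensor T) (g.rTensor T)

theorem UExact.exact {f : A →ₗ[R] B} {g : B →ₗ[R] C} (h : UExact f g) : Function.Exact f g :=
  Function.Exact.of_ladder_linearEquiv_of_exact (e₁ := TensorProduct.rid R A)
    (e₂ := TensorProduct.rid R B) (e₃ := TensorProduct.rid R C)
    (by ext a; simp) (by ext a; simp) (h R)

theorem surjective_of_rTensor_self {f : A →ₗ[R] B} (h : Function.Surjective (f.rTensor R)) :
    Function.Surjective f := fun b => by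
  obtain ⟨x, hx⟩ := h (b ⊗ₜ 1)
  refine ⟨TensorProduct.rid R A x, ?_⟩
  have e : f ∘ₗ (TensorProduct.rid R A).toLinearMap
      = (TensorProduct.rid R B).toLinearMap ∘ₗ f.rTensor R := by ext a; simp
  have := LinearMap.congr_fun e x
  simp only [LinearMap.comp_apply, LinearEquiv.coe_coe, hx] at this
  simpa using this

theorem UExact.range_ui {f : A →ₗ[R] B} {g : B →ₗ[R] C} (h : UExact f g) :
    CAlgX.UniversallyInjective R (LinearMap.range g).subtype := by
  intro Q _ _
  rw [injective_iff_map_eq_zero]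
  intro x hx
  obtain ⟨y, rfl⟩ := LinearMap.rTensor_surjective Q g.surjective_rangeRestrict x
  rw [← LinearMap.rTensor_comp_apply, LinearMap.subtype_comp_codRestrict] at hx
  obtain ⟨v, rfl⟩ := (h Q _).1 hx
  rw [← LinearMap.rTensor_comp_apply]
  have : g.rangeRestrict ∘ₗ f = 0 := LinearMap.ext fun a =>
    Subtype.ext (h.exact.apply_apply_eq_zero a)
  rw [this, LinearMap.rTensor_zero, LinearMap.zero_apply]

/-- Gluing a short universally exact piece into a complex. -/
theorem rTensor_exact_of_pieces {A' E : Type u} [AddCommGroup A'] [Module R A']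
    [AddCommGroup E] [Module R E]
    (p : A' →ₗ[R] A) (hp : Function.Surjective p) (i : A →ₗ[R] B) (q : B →ₗ[R] C)
    (hiq : Function.Exact i q) (hq : Function.Surjective q) (j : C →ₗ[R] E)
    (hj : CAlgX.UniversallyInjective R j) : UExact (i ∘ₗ p) (j ∘ₗ q) := by
  intro T _ _
  have h1 : Function.Exact (i.rTensor T) (q.rTensor T) := rTensor_exact T hiq hq
  rw [LinearMap.exact_iff, LinearMap.rTensor_comp, LinearMap.rTensor_comp,
    LinearMap.ker_comp_of_ker_eq_bot _ (LinearMap.ker_eq_bot.2 (hj T)),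
    LinearMap.range_comp_of_range_eq_top _
      (LinearMap.range_eq_top.2 (LinearMap.rTensor_surjective T hp)),
    LinearMap.exact_iff.1 h1]

/-- Maps from pure projective modules lift through maps with pure kernel. -/
theorem exists_lift {P : Type u} [AddCommGroup P] [Module R P] (c : A →ₗ[R] B) (b : B →ₗ[R] C)
    (hc : CAlgX.UniversallyInjective R (LinearMap.range c).subtype) (hcb : Function.Exact c b)
    (hP : ∀ ⦃L T : Type u⦄ [AddCommGroup L] [Module R L] [AddCommGroup T] [Module R T]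
      (g : L →ₗ[R] T), Function.Surjective g →
      CAlgX.UniversallyInjective R (LinearMap.ker g).subtype →
      ∀ φ : P →ₗ[R] T, ∃ ψ : P →ₗ[R] L, g ∘ₗ ψ = φ)
    (φ : P →ₗ[R] C) (hφ : ∀ p, φ p ∈ LinearMap.range b) :
    ∃ ψ : P →ₗ[R] B, b ∘ₗ ψ = φ := by
  have hker : CAlgX.UniversallyInjective R (LinearMap.ker b.rangeRestrict).subtype := by
    rw [b.ker_rangeRestrict, hcb.linearMap_ker_eq]
    exact hc
  obtain ⟨ψ, hψ⟩ := hP b.rangeRestrict b.surjective_rangeRestrict hker (φ.codRestrict _ hφ)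
  exact ⟨ψ, LinearMap.ext fun p => congrArg Subtype.val (LinearMap.congr_fun hψ p)⟩

/-- Maps into pure injective modules extend along maps with pure image. -/
theorem exists_extend {I : Type u} [AddCommGroup I] [Module R I] (a : A →ₗ[R] B) (b : B →ₗ[R] C)
    (hab : UExact a b)
    (hI : ∀ ⦃K L : Type u⦄ [AddCommGroup K] [Module R K] [AddCommGroup L] [Module R L]
      (g : K →ₗ[R] L), CAlgX.UniversallyInjective R g →
      ∀ φ : K →ₗ[R] I, ∃ ψ : L →ₗ[R] I, ψ ∘ₗ g = φ)
    (φ : B →ₗ[R] I) (hφ : φ ∘ₗ a = 0) : ∃ ψ : C →ₗ[R] I, ψ ∘ₗ b = φ := by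
  have hle : LinearMap.ker b ≤ LinearMap.ker φ := by
    rw [hab.exact.linearMap_ker_eq, LinearMap.range_le_ker_iff, hφ]
  let φ' : LinearMap.range b →ₗ[R] I :=
    (LinearMap.ker b).liftQ φ hle ∘ₗ b.quotKerEquivRange.symm.toLinearMap
  obtain ⟨ψ, hψ⟩ := hI (LinearMap.range b).subtype hab.range_ui φ'
  refine ⟨ψ, LinearMap.ext fun x => ?_⟩
  have := LinearMap.congr_fun hψ ⟨b x, LinearMap.mem_range_self b x⟩
  refine this.trans ?_
  simp [φ']

end Linear

variable {R : Type u} [CommRing R]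

theorem moduleCat_exact_iff {S : ShortComplex (ModuleCat.{u} R)} :
    S.Exact ↔ Function.Exact S.f.hom S.g.hom := by
  rw [S.moduleCat_exact_iff_range_eq_ker, LinearMap.exact_iff, eq_comm]

theorem moduleCat_epi_iff {X Y : ModuleCat.{u} R} (f : X ⟶ Y) :
    Epi f ↔ Function.Surjective f.hom := ModuleCat.epi_iff_surjective f

/-- Universally exact augmented chain complexes. -/
theorem quasiIso_chain_iff {M : ModuleCat.{u} R} (P : ChainComplex (ModuleCat.{u} R) ℕ)
    (π : P ⟶ (ChainComplex.single₀ (ModuleCat.{u} R)).obj M) (T : ModuleCat.{u} R) :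
    QuasiIso (((MonoidalCategory.tensorRight T).mapHomologicalComplex
        (ComplexShape.down ℕ)).map π) ↔
      (Function.Exact ((P.d 1 0).hom.rTensor T) ((π.f 0).hom.rTensor T) ∧
          Function.Surjective ((π.f 0).hom.rTensor T)) ∧
        ∀ n : ℕ, Function.Exact ((P.d (n + 2) (n + 1)).hom.rTensor T)
          ((P.d (n + 1) n).hom.rTensor T) := by
  set F := (MonoidalCategory.tensorRight T).mapHomologicalComplex (ComplexShape.down ℕ)
  have hz : ∀ n : ℕ, n ≠ 0 → IsZero ((F.obj ((ChainComplex.single₀ (ModuleCat.{u} R)).obj M)).X n) :=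
    fun n hn => Functor.map_isZero (MonoidalCategory.tensorRight T)
      (HomologicalComplex.isZero_single_obj_X _ _ _ _ hn)
  have h0 : QuasiIsoAt (F.map π) 0 ↔
      Function.Exact ((P.d 1 0).hom.rTensor T) ((π.f 0).hom.rTensor T) ∧
          Function.Surjective ((π.f 0).hom.rTensor T) := by
    rw [ChainComplex.quasiIsoAt₀_iff, ShortComplex.quasiIso_iff_of_zeros' _ ?_ ?_ ?_,
      moduleCat_exact_iff, moduleCat_epi_iff]
    · rfl
    · exact (F.obj P).shape 0 0 (by simp)
    · exact IsZero.eq_of_src (hz 1 one_ne_zero) _ _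
    · exact (F.obj ((ChainComplex.single₀ (ModuleCat.{u} R)).obj M)).shape 0 0 (by simp)
  have hn : ∀ n : ℕ, QuasiIsoAt (F.map π) (n + 1) ↔
      Function.Exact ((P.d (n + 2) (n + 1)).hom.rTensor T)
          ((P.d (n + 1) n).hom.rTensor T) := by
    intro n
    rw [quasiIsoAt_iff_exactAt' _ _ (HomologicalComplex.ExactAt.of_isZero (hz _ (Nat.succ_ne_zero n))),
      HomologicalComplex.exactAt_iff' _ (n + 2) (n + 1) n (by simp) (by simp),
      moduleCat_exact_iff]
    rfl
  constructor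
  · intro h
    exact ⟨h0.1 (h.quasiIsoAt 0), fun n => (hn n).1 (h.quasiIsoAt (n + 1))⟩
  · intro h
    exact ⟨fun i => match i with
      | 0 => h0.2 h.1
      | n + 1 => (hn n).2 (h.2 n)⟩

/-- Universally exact coaugmented cochain complexes. -/
theorem quasiIso_cochain_iff {M : ModuleCat.{u} R} (I : CochainComplex (ModuleCat.{u} R) ℕ)
    (η : (CochainComplex.single₀ (ModuleCat.{u} R)).obj M ⟶ I) (T : ModuleCat.{u} R) :
    QuasiIso (((MonoidalCategory.tensorRight T).mapHomologicalComplex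
        (ComplexShape.up ℕ)).map η) ↔
      (Function.Exact ((η.f 0).hom.rTensor T) ((I.d 0 1).hom.rTensor T) ∧
          Function.Injective ((η.f 0).hom.rTensor T)) ∧
        ∀ n : ℕ, Function.Exact ((I.d n (n + 1)).hom.rTensor T)
          ((I.d (n + 1) (n + 2)).hom.rTensor T) := by
  set F := (MonoidalCategory.tensorRight T).mapHomologicalComplex (ComplexShape.up ℕ)
  have hz : ∀ n : ℕ, n ≠ 0 → IsZero ((F.obj ((CochainComplex.single₀ (ModuleCat.{u} R)).obj M)).X n) :=
    fun n hn => Functor.map_isZero (MonoidalCategory.tensorRight T)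
      (HomologicalComplex.isZero_single_obj_X _ _ _ _ hn)
  have h0 : QuasiIsoAt (F.map η) 0 ↔
      Function.Exact ((η.f 0).hom.rTensor T) ((I.d 0 1).hom.rTensor T) ∧
          Function.Injective ((η.f 0).hom.rTensor T) := by
    rw [CochainComplex.quasiIsoAt₀_iff, ShortComplex.quasiIso_iff_of_zeros _ ?_ ?_ ?_,
      moduleCat_exact_iff, ModuleCat.mono_iff_injective]
    · rfl
    · exact (F.obj ((CochainComplex.single₀ (ModuleCat.{u} R)).obj M)).shape 0 0 (by simp)
    · exact IsZero.eq_of_tgt (hz 1 one_ne_zero) _ _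
    · exact (F.obj I).shape 0 0 (by simp)
  have hn : ∀ n : ℕ, QuasiIsoAt (F.map η) (n + 1) ↔
      Function.Exact ((I.d n (n + 1)).hom.rTensor T)
          ((I.d (n + 1) (n + 2)).hom.rTensor T) := by
    intro n
    rw [quasiIsoAt_iff_exactAt _ _ (HomologicalComplex.ExactAt.of_isZero (hz _ (Nat.succ_ne_zero n))),
      HomologicalComplex.exactAt_iff' _ n (n + 1) (n + 2) (by simp) (by simp),
      moduleCat_exact_iff]
    rfl
  constructor
  · intro h
    exact ⟨h0.1 (h.quasiIsoAt 0), fun n => (hn n).1 (h.quasiIsoAt (n + 1))⟩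
  · intro h
    exact ⟨fun i => match i with
      | 0 => h0.2 h.1
      | n + 1 => (hn n).2 (h.2 n)⟩

section ChainLift

variable {N P : ModuleCat.{u} R} {K : ChainComplex (ModuleCat.{u} R) ℕ}
  {ε : K ⟶ (ChainComplex.single₀ (ModuleCat.{u} R)).obj N}

/-- Unpacking the universal exactness of a resolution. -/
theorem chain_data
    (h : ∀ T : ModuleCat.{u} R, QuasiIso (((MonoidalCategory.tensorRight T).mapHomologicalComplex
      (ComplexShape.down ℕ)).map ε)) :
    UExact (K.d 1 0).hom (ε.f 0).hom ∧ Function.Surjective (ε.f 0).hom ∧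
      ∀ n : ℕ, UExact (K.d (n + 2) (n + 1)).hom (K.d (n + 1) n).hom :=
  ⟨fun T _ _ => ((quasiIso_chain_iff K ε (ModuleCat.of R T)).1 (h _)).1.1,
    surjective_of_rTensor_self (((quasiIso_chain_iff K ε (ModuleCat.of R R)).1 (h _)).1.2),
    fun n T _ _ => ((quasiIso_chain_iff K ε (ModuleCat.of R T)).1 (h _)).2 n⟩

variable
  (hP : ∀ ⦃L T : Type u⦄ [AddCommGroup L] [Module R L] [AddCommGroup T] [Module R T] (g : L →ₗ[R] T),
    Function.Surjective g → CAlgX.UniversallyInjective R (LinearMap.ker g).subtype →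
    ∀ φ : P →ₗ[R] T, ∃ ψ : P →ₗ[R] L, g ∘ₗ ψ = φ)
  (hK : ∀ T : ModuleCat.{u} R, QuasiIso (((MonoidalCategory.tensorRight T).mapHomologicalComplex
    (ComplexShape.down ℕ)).map ε))

include hP hK

theorem lift_augmentation (φ : P ⟶ N) : ∃ ψ : P ⟶ K.X 0, ψ ≫ ε.f 0 = φ := by
  obtain ⟨h0, hs, hn⟩ := chain_data hK
  obtain ⟨ψ, hψ⟩ := exists_lift (K.d 1 0).hom (ε.f 0).hom (hn 0).range_ui h0.exact hP φ.hom
    fun p => hs (φ.hom p)
  exact ⟨ModuleCat.ofHom ψ, ModuleCat.hom_ext hψ⟩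

theorem lift_zero (φ : P ⟶ K.X 0) (hφ : φ ≫ ε.f 0 = 0) : ∃ ψ : P ⟶ K.X 1, ψ ≫ K.d 1 0 = φ := by
  obtain ⟨h0, hs, hn⟩ := chain_data hK
  obtain ⟨ψ, hψ⟩ := exists_lift (K.d 2 1).hom (K.d 1 0).hom (hn 1).range_ui (hn 0).exact hP φ.hom
    fun p => (h0.exact _).1 (LinearMap.congr_fun (congrArg ModuleCat.Hom.hom hφ) p)
  exact ⟨ModuleCat.ofHom ψ, ModuleCat.hom_ext hψ⟩

theorem lift_succ (n : ℕ) (φ : P ⟶ K.X (n + 1)) (hφ : φ ≫ K.d (n + 1) n = 0) :
    ∃ ψ : P ⟶ K.X (n + 2), ψ ≫ K.d (n + 2) (n + 1) = φ := by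
  obtain ⟨h0, hs, hn⟩ := chain_data hK
  obtain ⟨ψ, hψ⟩ := exists_lift (K.d (n + 3) (n + 2)).hom (K.d (n + 2) (n + 1)).hom
    (hn (n + 2)).range_ui (hn (n + 1)).exact hP φ.hom
    fun p => ((hn n).exact _).1 (LinearMap.congr_fun (congrArg ModuleCat.Hom.hom hφ) p)
  exact ⟨ModuleCat.ofHom ψ, ModuleCat.hom_ext hψ⟩

end ChainLift

section CochainExtend

variable {M J : ModuleCat.{u} R} {K : CochainComplex (ModuleCat.{u} R) ℕ}
  {η : (CochainComplex.single₀ (ModuleCat.{u} R)).obj M ⟶ K}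

/-- Unpacking the universal exactness of a coresolution. -/
theorem cochain_data
    (h : ∀ T : ModuleCat.{u} R, QuasiIso (((MonoidalCategory.tensorRight T).mapHomologicalComplex
      (ComplexShape.up ℕ)).map η)) :
    UExact (η.f 0).hom (K.d 0 1).hom ∧ CAlgX.UniversallyInjective R (η.f 0).hom ∧
      ∀ n : ℕ, UExact (K.d n (n + 1)).hom (K.d (n + 1) (n + 2)).hom :=
  ⟨fun T _ _ => ((quasiIso_cochain_iff K η (ModuleCat.of R T)).1 (h _)).1.1,
    fun T _ _ => ((quasiIso_cochain_iff K η (ModuleCat.of R T)).1 (h _)).1.2,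
    fun n T _ _ => ((quasiIso_cochain_iff K η (ModuleCat.of R T)).1 (h _)).2 n⟩

variable
  (hJ : ∀ ⦃A L : Type u⦄ [AddCommGroup A] [Module R A] [AddCommGroup L] [Module R L] (g : A →ₗ[R] L),
    CAlgX.UniversallyInjective R g → ∀ φ : A →ₗ[R] J, ∃ ψ : L →ₗ[R] J, ψ ∘ₗ g = φ)
  (hK : ∀ T : ModuleCat.{u} R, QuasiIso (((MonoidalCategory.tensorRight T).mapHomologicalComplex
    (ComplexShape.up ℕ)).map η))

include hJ hK

theorem extend_coaugmentation (φ : M ⟶ J) : ∃ ψ : K.X 0 ⟶ J, η.f 0 ≫ ψ = φ := by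
  obtain ⟨ψ, hψ⟩ := hJ (η.f 0).hom (cochain_data hK).2.1 φ.hom
  exact ⟨ModuleCat.ofHom ψ, ModuleCat.hom_ext hψ⟩

theorem extend_zero (φ : K.X 0 ⟶ J) (hφ : η.f 0 ≫ φ = 0) :
    ∃ ψ : K.X 1 ⟶ J, K.d 0 1 ≫ ψ = φ := by
  obtain ⟨ψ, hψ⟩ := exists_extend (η.f 0).hom (K.d 0 1).hom (cochain_data hK).1 hJ φ.hom
    (congrArg ModuleCat.Hom.hom hφ)
  exact ⟨ModuleCat.ofHom ψ, ModuleCat.hom_ext hψ⟩

theorem extend_succ (n : ℕ) (φ : K.X (n + 1) ⟶ J) (hφ : K.d n (n + 1) ≫ φ = 0) :
    ∃ ψ : K.X (n + 2) ⟶ J, K.d (n + 1) (n + 2) ≫ ψ = φ := by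
  obtain ⟨ψ, hψ⟩ := exists_extend (K.d n (n + 1)).hom (K.d (n + 1) (n + 2)).hom
    ((cochain_data hK).2.2 n) hJ φ.hom (congrArg ModuleCat.Hom.hom hφ)
  exact ⟨ModuleCat.ofHom ψ, ModuleCat.hom_ext hψ⟩

end CochainExtend

end Groth.Agent.Lib.Pure.Res
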